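import Cfsg.Agent.Cit.Nil.RTwoM.JArg
import Cfsg.Agent.Cit.Nil.RTwoM.Star

/-!
# S1309, (6b), (C3), `r = 2`, `m = 3`, `|T| = 4` (helper545, bb #18935): the world, (1)-(4)

* `A0 Om z = a₀(z)` : the C-partners of `z`; `W3 Om` : the world (`third`: the cliques are `{z, u, z u}`);
* `swp_mul` : parity; `ff_mul` : `x` of type `f` at `z`: `z x ∈ Z`;
* `W3.comm`, `W3.not_ff`, `W3.dich` : two elements of `a₀(z)`;
* `W3.thin` (1) : `Z ∩ R_x = {x}`; `W3.pp` (2) : `q` a swap at `x`: `x q ∉ Z`; `W3.swp_symm`, `W3.ff_symm`;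
* `W3.faith` (4), `W3.not_ti` : `x ∈ Z ∩ C(z)` moving some `u ∈ a₀(z)` is not of type I with `z`.
-/

set_option autoImplicit false
set_option linter.style.haveILetI false
set_option linter.unusedSectionVars false

namespace Cfsg.Agent.Cit.Nil.RTwoM.MThree

open Subgroup Cfsg Cfsg.Agent.Cit

open RTwo (Q3)
open RG (WR CP Ov InO Tr)
open RI (CS)
open ROne (NC self_mem_NC conj_mem_NC cj_NC mem_NC_conj NC_le)

variable {G : Type*} [Group G] {Om : Set (Subgroup G)} {K L M : Subgroup G}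
  {a b c d e g g' k l n q r s t u v w x y z : G}

/-- `a₀(z)` -/
def A0 (Om : Set (Subgroup G)) (z : G) : Set G := {u | InZ Om u ∧ CP Om z u}

/-- the world `m = 3`, `|T| = 4` -/
structure W3 (Om : Set (Subgroup G)) : Prop where
  w : WM Om
  l0 : L0 Om
  an : ANT Om
  oc : OneCl Om
  as : ∀ e z u x, e * e = 1 → e ≠ 1 → InZ Om z → InZ Om u → CP Om z u → e ∈ CX Om z → e ∈ CX Om u → InZ Om x →
    e ∈ CX Om x → x * z = z * x
  mul : ∀ z u, InZ Om z → InZ Om u → CP Om z u → InZ Om (z * u)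
  ex : ∀ z, InZ Om z → ∃ u, InZ Om u ∧ CP Om z u
  third : ∀ z u v, InZ Om z → InZ Om u → InZ Om v → CP Om z u → CP Om z v → CP Om u v → v = z * u

section Fin

variable [Finite G]

/-! ### Parity -/

theorem swp_iff (h : WM Om) (hK : Mem Om x K) (hg : g * x = x * g) : Swp Om x g ↔ cj g K ≠ K :=
  ⟨fun h1 => h1.2 K hK, fun h1 => Swp.of_one h hK hg h1⟩

/-- **parity** -/
theorem swp_mul (h : WM Om) (hx : InZ Om x) (hg : g * x = x * g) (hg' : g' * x = x * g') :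
    ¬ Swp Om x (g * g') ↔ (Swp Om x g ↔ Swp Om x g') := by
  obtain ⟨K, hK⟩ := hx
  obtain ⟨L, hL, hne, -⟩ := hK.other h
  have hgg : g * g' * x = x * (g * g') := by rw [mul_assoc, hg', ← mul_assoc, hg, mul_assoc]
  rw [swp_iff h hK hg, swp_iff h hK hg', swp_iff h hK hgg, cj_mul, not_not]
  rcases cj_cases h hK hL hne hg with ⟨h1, h2⟩ | ⟨h1, h2⟩ <;> rcases cj_cases h hK hL hne hg' with ⟨h3, h4⟩ | ⟨h3, h4⟩
  · rw [h3, h1]; tauto
  · rw [h3, h2, h1]
    constructor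
    · intro h5; exact absurd h5.symm hne
    · intro h5; exact absurd rfl (h5.2 hne.symm)
  · rw [h3, h1]
    constructor
    · intro h5; exact absurd h5.symm hne
    · intro h5; exact absurd rfl (h5.1 hne.symm)
  · rw [h3, h2, h1]
    constructor
    · intro _; exact Iff.rfl
    · intro _; rfl

/-- `x` of type `f` at `z` : `z x ∈ Z` -/
theorem ff_mul (h : WM Om) (hz : InZ Om z) (hx : InZ Om x) (hf : Ff Om z x) : InZ Om (z * x) := by
  obtain ⟨K, hK⟩ := hz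
  obtain ⟨a, ha⟩ := hf.exists_tr h (hx.z2 h) hK
  have h1 := Tr.inv' ha hK h
  have h2 := hx.conj h a⁻¹
  rw [inv_inv] at h2
  have h3 : a⁻¹ * x * a = z * x := by
    -- `x a = z a x`
    rw [mul_inv_eq_iff_eq_mul] at h1
    have haz := hK.comm_z h ha.mem
    calc a⁻¹ * x * a = a⁻¹ * (x * a) := by group
      _ = a⁻¹ * (z * a * x) := by rw [h1]
      _ = a⁻¹ * (a * z) * x := by rw [haz]; group
      _ = z * x := by group
  rwa [h3] at h2

theorem A0.inZ (hu : u ∈ A0 Om z) : InZ Om u := hu.1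
theorem A0.cp (hu : u ∈ A0 Om z) : CP Om z u := hu.2

/-- the types of a commuting pair -/
theorem ff_ncp (hf : Ff Om z t) (h : WM Om) (hz : InZ Om z) (ht : InZ Om t) : ¬ CP Om z t :=
  Out.not_cp ⟨hf.1, Or.inr hf.2⟩ h hz ht

theorem ff_nti (hf : Ff Om z t) (h : WM Om) : ¬ TI Om z t := Out.not_ti ⟨hf.1, Or.inr hf.2⟩ h

theorem sw_ncp (hs : Swp Om z t) (h : WM Om) (hz : InZ Om z) (ht : InZ Om t) : ¬ CP Om z t :=
  Out.not_cp ⟨hs.1, Or.inl hs⟩ h hz ht

theorem sw_nti (hs : Swp Om z t) (h : WM Om) : ¬ TI Om z t := Out.not_ti ⟨hs.1, Or.inl hs⟩ h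

theorem sw_ne (hs : Swp Om z t) (hz : InZ Om z) (h : WM Om) : z ≠ t := by
  rintro rfl
  obtain ⟨K, hK⟩ := hz
  exact hs.2 K hK (Inn.cj_eq (Inn.of_CX (z_mem_CX h)) hK h)

theorem ff_ne (hs : Ff Om z t) (hz : InZ Om z) (h : WM Om) : z ≠ t := by
  rintro rfl
  obtain ⟨K, hK⟩ := hz
  exact (hs.2 K hK).2 (Inn.of_CX (z_mem_CX h) K hK)

/-- the four types -/
theorem four (h : WM Om) (hz : InZ Om z) (ht : InZ Om t) (hne : z ≠ t) (hc : z * t = t * z) :
    CP Om z t ∨ TI Om z t ∨ Swp Om z t ∨ Ff Om z t := by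
  rcases tri h hz ht hne hc with h1 | h1 | ⟨h1, -⟩
  · exact Or.inl h1
  · exact Or.inr (Or.inl h1)
  · rcases h1.cases with h2 | h2
    · exact Or.inr (Or.inr (Or.inl h2))
    · exact Or.inr (Or.inr (Or.inr h2))

/-- conjugates of a swap under `K` -/
theorem conj_swp (hs : Swp Om z x) (h : WM Om) (hx : x * x = 1) (hK : Mem Om z K) (hk : k ∈ K) :
    k * x * k⁻¹ = x * ((k⁻¹ * k⁻¹) * qq x k) := by
  have h1 := hs.cm h hK (inv_mem hk) hk
  have hx' : x⁻¹ = x := inv_eq_of_mul_eq_one_right hx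
  calc k * x * k⁻¹ = x * ((x⁻¹ * k * x) * k⁻¹) := by group
    _ = x * ((x * k * x⁻¹) * k⁻¹) := by rw [hx']
    _ = x * (k⁻¹ * (x * k * x⁻¹)) := by rw [h1]
    _ = x * ((k⁻¹ * k⁻¹) * qq x k) := by rw [qq]; group

namespace W3

variable (h : W3 Om)

include h

theorem an1 (hz : InZ Om z) : ANt Om z := by
  obtain ⟨S, hS⟩ := exists_sylow h.w hz
  exact h.an S z (CS.mem_TT hS) (hz.z1 h.w)

theorem mem_ZS (hz : InZ Om z) (hu : u ∈ A0 Om z) : u ∈ ZS Om z := ⟨hu.1, cp_cx h.w hz hu.2.symm⟩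

theorem self_ZS (hz : InZ Om z) : z ∈ ZS Om z := ⟨hz, z_mem_CX h.w⟩

theorem comm (hz : InZ Om z) (hu : u ∈ A0 Om z) (hv : v ∈ A0 Om z) : u * v = v * u :=
  ZS_comm h.w h.l0 (h.an1 hz) (h.mem_ZS hz hu) (h.mem_ZS hz hv)

theorem comm_z (hz : InZ Om z) (hu : u ∈ A0 Om z) : z * u = u * z := cp_comm h.w hz hu.1 hu.2

theorem not_ff' (hz : InZ Om z) (hu : u ∈ ZS Om z) (hv : v ∈ ZS Om z) : ¬ Ff Om u v := by
  rcases NC_mem_or h.w (h.an1 hz) hu hv with h1 | h1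
  · exact not_ff_of_NC h.w (h.an1 hz) hu h1
  · intro hf
    have h2 : u ∈ CX Om v := by
      rw [mem_CX]
      intro K hK k hk
      exact (h1 u self_mem_NC k (hK.le_RZ hk)).symm
    rcases (cen_iff h.w hv.1 hu.1).1 h2 with h3 | h3
    · exact ff_ne hf hu.1 h.w h3.symm
    · exact ff_ncp hf h.w hu.1 hv.1 h3.symm

theorem not_ff (hz : InZ Om z) (hu : u ∈ A0 Om z) (hv : v ∈ A0 Om z) : ¬ Ff Om u v :=
  h.not_ff' hz (h.mem_ZS hz hu) (h.mem_ZS hz hv)

/-- `z u ∈ a₀(z)` -/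
theorem mul_mem (hz : InZ Om z) (hu : u ∈ A0 Om z) : z * u ∈ A0 Om z := by
  have h1 := h.mul z u hz hu.1 hu.2
  refine ⟨h1, ?_⟩
  have h2 : z * u ∈ CX Om z := Subgroup.mul_mem _ (z_mem_CX h.w) (cp_cx h.w hu.1 hu.2)
  rcases (cen_iff h.w hz h1).1 h2 with h3 | h3
  · exact absurd (mul_eq_left.1 h3.symm) (hu.1.z1 h.w)
  · exact h3

/-- `z u ∈ a₀(u)` -/
theorem mul_mem' (hz : InZ Om z) (hu : u ∈ A0 Om z) : z * u ∈ A0 Om u := by
  rw [h.comm_z hz hu]
  exact h.mul_mem hu.1 ⟨hz, hu.2.symm⟩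

theorem symm_mem (hz : InZ Om z) (hu : u ∈ A0 Om z) : z ∈ A0 Om u := ⟨hz, hu.2.symm⟩

/-- an element of `Z` in `X_z` which is not `z` -/
theorem mem_of_cx (hz : InZ Om z) (hu : InZ Om u) (hne : z ≠ u) (hc : u ∈ CX Om z) : u ∈ A0 Om z :=
  ⟨hu, ((cen_iff h.w hz hu).1 hc).resolve_left hne⟩

theorem conj_mem (hu : u ∈ A0 Om z) (hg : g * z = z * g) : g * u * g⁻¹ ∈ A0 Om z := by
  refine ⟨hu.1.conj h.w g, ?_⟩
  have h1 := cp_conj h.w hu.2 g
  rwa [hg, mul_inv_cancel_right] at h1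

/-- two elements of `a₀(z)` : C (then `v = z u`), type I or a swap pair -/
theorem dich (hz : InZ Om z) (hu : u ∈ A0 Om z) (hv : v ∈ A0 Om z) (hne : u ≠ v) :
    v = z * u ∨ TI Om u v ∨ (Swp Om u v ∧ Swp Om v u) := by
  rcases tri h.w hu.1 hv.1 hne (h.comm hz hu hv) with h1 | h1 | ⟨h1, h2⟩
  · exact Or.inl (h.third z u v hz hu.1 hv.1 hu.2 hv.2 h1)
  · exact Or.inr (Or.inl h1)
  · right; right
    exact ⟨h1.cases.resolve_right (h.not_ff hz hu hv), h2.cases.resolve_right (h.not_ff hz hv hu)⟩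

/-- the product of a type I pair of `a₀(z)` -/
theorem ti_mem (hz : InZ Om z) (hu : u ∈ A0 Om z) (hv : v ∈ A0 Om z) (hti : TI Om u v) : u * v ∈ A0 Om z := by
  refine h.mem_of_cx hz (hti.inZ_mul h.w) ?_ (Subgroup.mul_mem _ (cp_cx h.w hu.1 hu.2) (cp_cx h.w hv.1 hv.2))
  intro h1
  have h2 : v = z * u := by
    rw [h1, hti.comm, mul_assoc, hu.1.z2 h.w, mul_one]
  rw [h2] at hti
  exact hti.not_cp h.w (h.mul_mem' hz hu).2

/-- **(1)** -/
theorem thin (hx : InZ Om x) (hn : InZ Om n) (hr : n ∈ RZ Om x) : n = x := by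
  by_contra hne
  have hti := TI.of_mem_RZ h.w hx hn (fun h1 => hne h1.symm) hr
  obtain ⟨v, hv⟩ : ∃ v, v ∈ A0 Om x := h.ex x hx
  have h1 : v ∈ A0 Om n := ⟨hv.1, (hti.cp_iff h.w hr hv.1).1 hv.2⟩
  have h2 := h.mul_mem hn h1
  have h3 : CP Om x (n * v) := (hti.cp_iff h.w hr h2.1).2 h2.2
  have h4 : n ∈ CX Om x := by
    have h5 := Subgroup.mul_mem _ (cp_cx h.w h2.1 h3) (cp_cx h.w hv.1 hv.2)
    rwa [mul_assoc, hv.1.z2 h.w, mul_one] at h5
  exact hti.not_cp h.w (h.mem_of_cx hx hn hti.ne h4).2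

/-- **(2)** `q` a swap at `x` : `x q ∉ Z` -/
theorem pp (hx : InZ Om x) (hq : InZ Om q) (hs : Swp Om x q) : ¬ InZ Om (x * q) := by
  intro hxq
  have hqq := hq.z2 h.w
  have hxx := hx.z2 h.w
  have hqx := hs.1
  obtain ⟨K, hK⟩ := hx
  obtain ⟨y, Y⟩ := h.w.exists_q3 hK
  -- `q l ∈ Z` for all `l ∈ L_q`
  have key : ∀ k ∈ K, k * k = x → InZ Om (q * (x * qq q k)) ∧ InZ Om (q * qq q k) := by
    intro k hk hkk
    have h1 : k⁻¹ * k⁻¹ = x := by rw [← mul_inv_rev, hkk, hK.inZ.inv h.w]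
    constructor
    · have h2 := hq.conj h.w k
      rwa [conj_swp hs h.w hqq hK hk, h1] at h2
    · have h2 := hxq.conj h.w k
      have h3 : k * (x * q) * k⁻¹ = q * qq q k := by
        calc k * (x * q) * k⁻¹ = (k * x) * q * k⁻¹ := by group
          _ = (x * k) * q * k⁻¹ := by rw [hK.comm_z h.w hk]
          _ = x * (k * q * k⁻¹) := by group
          _ = x * (q * (x * qq q k)) := by rw [conj_swp hs h.w hqq hK hk, h1]
          _ = (x * q) * x * qq q k := by group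
          _ = (q * x) * x * qq q k := by rw [hqx]
          _ = q * (x * x) * qq q k := by group
          _ = _ := by rw [hxx, mul_one]
      rwa [h3] at h2
  -- an even `n`
  have e0 := Y.mul 0
  simp only [zero_add] at e0
  have cq : ∀ k ∈ K, qq q k * q = q * qq q k := fun k hk => (qq_comm hs h.w hqq hK hk).symm
  obtain ⟨k, hk, hkk, hns⟩ : ∃ k ∈ K, k * k = x ∧ ¬ Swp Om q (qq q k) := by
    by_cases h1 : Swp Om q (qq q (y 0))
    · by_cases h2 : Swp Om q (qq q (y 1))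
      · refine ⟨y 2, Y.mem 2, Y.sq 2, ?_⟩
        have h3 : qq q (y 2) = qq q (y 0) * qq q (y 1) := by
          rw [← qq_mul hs h.w hK (Y.mem 0) (Y.mem 1), e0]
        rw [h3, swp_mul h.w hq (cq _ (Y.mem 0)) (cq _ (Y.mem 1))]
        exact ⟨fun _ => h2, fun _ => h1⟩
      · exact ⟨y 1, Y.mem 1, Y.sq 1, h2⟩
    · exact ⟨y 0, Y.mem 0, Y.sq 0, h1⟩
  obtain ⟨n, hn⟩ : ∃ n, n = qq q k := ⟨_, rfl⟩
  rw [← hn] at hns
  have hnR : n ∈ RZ Om x := by rw [hn]; exact qq_mem hs h.w hK hk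
  have hqn : InZ Om (q * n) := by rw [hn]; exact (key k hk hkk).2
  have hn1 : n ≠ 1 := by
    intro h1
    rw [hn] at h1
    rcases qq_eq_one hs h.w hK hk h1 with h2 | h2
    · rw [h2, one_mul] at hkk; exact hK.inZ.z1 h.w hkk.symm
    · rw [h2, hxx] at hkk; exact hK.inZ.z1 h.w hkk.symm
  have hnx : n ≠ x := by
    intro h1
    rw [hn] at h1
    -- `k^q = k⁻¹ x ∈ K`
    have h2 : q * k * q⁻¹ = k⁻¹ * x := by rw [eq_inv_mul_iff_mul_eq]; exact h1
    have h3 : k⁻¹ * x ∈ K := Subgroup.mul_mem _ (Subgroup.inv_mem _ hk) (hK.zmem h.w)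
    have h4 : q * k * q⁻¹ ∈ cj q K := conj_mem_cj hk
    rcases hs.inf h.w hK h3 h4 h2.symm with h5 | h5
    · have h6 : x = k := by rw [inv_mul_eq_one] at h5; exact h5.symm
      rw [← h6, hxx] at hkk; exact hK.inZ.z1 h.w hkk.symm
    · have h6 : k = 1 := by
        rw [inv_mul_eq_iff_eq_mul] at h5
        exact mul_eq_right.1 h5.symm
      rw [h6, one_mul] at hkk; exact hK.inZ.z1 h.w hkk.symm
  have hnq : n * q = q * n := by rw [hn]; exact cq k hk
  have hZ : InZ Om n → False := fun h1 => hnx (h.thin hK.inZ h1 hnR)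
  -- the pair `(q, q n)`
  have hne : q ≠ q * n := fun h1 => hn1 (mul_eq_left.1 h1.symm)
  have hc : q * (q * n) = (q * n) * q := by rw [mul_assoc, hnq]
  have hqqn : q * (q * n) = n := by rw [← mul_assoc, hqq, one_mul]
  rcases four h.w hq hqn hne hc with h1 | h1 | h1 | h1
  · have h2 := h.mul q (q * n) hq hqn h1
    rw [hqqn] at h2
    exact hZ h2
  · have h2 := h1.inZ_mul h.w
    rw [hqqn] at h2
    exact hZ h2
  · have h2 : ¬ Swp Om q (q * n) := by
      rw [swp_mul h.w hq rfl hnq]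
      constructor
      · intro h3; exact absurd rfl (sw_ne h3 hq h.w)
      · intro h3; exact absurd h3 hns
    exact h2 h1
  · have h2 := ff_mul h.w hq hqn h1
    rw [hqqn] at h2
    exact hZ h2

theorem swp_symm (hx : InZ Om x) (hq : InZ Om q) (hs : Swp Om x q) : Swp Om q x := by
  have hne := sw_ne hs hx h.w
  rcases tri h.w hx hq hne hs.1.symm with h1 | h1 | ⟨-, h1⟩
  · exact absurd h1 (sw_ncp hs h.w hx hq)
  · exact absurd h1 (sw_nti hs h.w)
  · rcases h1.cases with h2 | h2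
    · exact h2
    · exfalso
      have h3 := ff_mul h.w hq hx h2
      rw [hs.1] at h3
      exact h.pp hx hq hs h3

theorem ff_symm (hx : InZ Om x) (hq : InZ Om q) (hs : Ff Om x q) : Ff Om q x := by
  have hne := ff_ne hs hx h.w
  rcases tri h.w hx hq hne hs.1.symm with h1 | h1 | ⟨-, h1⟩
  · exact absurd h1 (ff_ncp hs h.w hx hq)
  · exact absurd h1 (ff_nti hs h.w)
  · rcases h1.cases with h2 | h2
    · exfalso
      have h3 := ff_mul h.w hx hq hs
      rw [← hs.1] at h3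
      exact h.pp hq hx h2 h3
    · exact h2

/-- **(4)** `x ∈ Z ∩ C(z)` moves some `u ∈ a₀(z)` : `C_{R_z}(x)` is faithful on `R_x` -/
theorem faith (hz : InZ Om z) (hx : InZ Om x) (hc : x * z = z * x) (hu : u ∈ A0 Om z) (hm : x * u ≠ u * x)
    (hl : l ∈ RZ Om z) (hlx : x * l = l * x) (hcx : l ∈ CX Om x) : l = 1 := by
  by_contra hne
  -- `z` does not centralise `R_x`
  have hzx : z ∉ CX Om x := by
    intro h1
    by_cases h2 : x = z
    · rw [h2] at hm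
      exact hm (h.comm_z hz hu)
    · have h3 := h.mem_of_cx hx hz h2 h1
      exact hm (h.comm hz (h.symm_mem hx h3) hu)
  have hll : l * l = 1 := by
    obtain ⟨K, hK⟩ := hz
    obtain ⟨L, hL, hKL, -⟩ := hK.other h.w
    obtain ⟨a, ha, b, hb, rfl⟩ := (mem_RZ hK hL h.w hKL).1 hl
    have hab := hK.comm hL h.w hKL ha hb
    have h1 : a * b * (a * b) = (a * a) * (b * b) := by
      calc a * b * (a * b) = a * (b * a) * b := by group
        _ = a * (a * b) * b := by rw [hab]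
        _ = _ := by group
    have h2 : a * b * (a * b) ∈ CX Om x := Subgroup.mul_mem _ hcx hcx
    have hzz := hK.inZ.z2 h.w
    have h3 : a * b * (a * b) = 1 ∨ a * b * (a * b) = z := by
      rw [h1]
      rcases hK.sq_cases h.w ha with rfl | rfl | h4 <;> rcases hL.sq_cases h.w hb with rfl | rfl | h5
      all_goals simp_all
    rcases h3 with h3 | h3
    · exact h3
    · rw [h3] at h2; exact absurd h2 hzx
  have h1 := h.mul_mem hz hu
  have h2 := h.mul_mem' hz hu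
  refine hm (h.as l u (z * u) x hll hne hu.1 h1.1 h2.2 ?_ ?_ hx hcx)
  · rw [mem_CX]
    exact fun K hK k hk => cp_RZ h.w hu.2 hl (hK.le_RZ hk)
  · rw [mem_CX]
    exact fun K hK k hk => cp_RZ h.w h1.2 hl (hK.le_RZ hk)

/-- `(x, z)` is not of type I -/
theorem not_ti (hz : InZ Om z) (hx : InZ Om x) (hc : x * z = z * x) (hu : u ∈ A0 Om z) (hm : x * u ≠ u * x) :
    ¬ TI Om x z := by
  intro hti
  rcases hti.dich h.w with h1 | ⟨g, hg, hgz, hgg, hgx, -⟩
  · exact hti.ne (h.thin hz hx h1)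
  · have h2 : g ∈ RZ Om x := hg
    have h3 : z * g ∈ RZ Om z := Subgroup.mul_mem _ (z_mem_RZ hz h.w) hgz
    have h4 : x * (z * g) = z * g * x := by
      rw [← mul_assoc, hc, mul_assoc, ← RZ_le_centralizer h.w h2, mul_assoc]
    have h5 := h.faith hz hx hc hu hm h3 h4 hgx
    have h6 : z = g := by
      rw [mul_eq_one_iff_eq_inv] at h5
      rw [h5, inv_eq_of_mul_eq_one_right hgg]
    rw [← h6] at h2
    exact hti.ne (h.thin hx hz h2).symm

/-- `x ∈ Z ∩ C(z)` moving `u ∈ a₀(z)` : `p` or `f` -/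
theorem pf (hz : InZ Om z) (hx : InZ Om x) (hc : x * z = z * x) (hu : u ∈ A0 Om z) (hm : x * u ≠ u * x) :
    Swp Om x z ∨ Ff Om x z := by
  have hne : x ≠ z := by
    rintro rfl
    exact hm (h.comm_z hz hu)
  rcases four h.w hx hz hne hc with h1 | h1 | h1 | h1
  · exact absurd (h.comm hz (h.symm_mem hx ⟨hz, h1⟩) hu) hm
  · exact absurd h1 (h.not_ti hz hx hc hu hm)
  · exact Or.inl h1
  · exact Or.inr h1

end W3

end Fin

end Cfsg.Agent.Cit.Nil.RTwoM.MThree
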