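import Cfsg.Agent.Cit.Nil.RTwoM.MThree.Types
import Cfsg.Agent.Cit.Nil.RTwoM.BlkOne

/-!
# S1309, (6b), (C3), `r = 2`, `m = 3`, `|T| = 4`: the block `a₀(z)` with swap pairs has eight points

* `ChtG.self`, `ChtG.sy`, `ChtG.cm`, `ChtG.add'`, `ChtG.ne_one`;
* `W3.nilS`; `W3.disj` : disjoint four-sets are `v`, `z v`; `W3.ti2` : four-sets meeting in two points are of type I;
* **`W3.eight`** : a chart on eight points; `W3.h8'` : `H8'`.
-/

set_option autoImplicit false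
set_option linter.style.haveILetI false
set_option linter.unusedSectionVars false

namespace Cfsg.Agent.Cit.Nil.RTwoM.MThree

open Subgroup Cfsg Cfsg.Agent.Cit

open RTwo (Q3)
open RG (WR CP Ov InO Tr)
open RI (CS)
open Blk (Dst dl dl_self dl_ne)

variable {G : Type*} [Group G] {Om : Set (Subgroup G)} {K L M : Subgroup G} {D : Set G}
  {a b c d g g' n q r s t u v w x y y' z : G} {I : Type*} [DecidableEq I] {e : I → I → G} {i j k l m p : I}

section Fin

variable [Finite G]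

/-! ### Charts -/

theorem cself (c : ChtG Om D e) (i : I) : e i i = 1 := left_eq_mul.1 (c.add i i i).symm

theorem csq (c : ChtG Om D e) (nil : NilS Om D) (h : WM Om) (i j : I) : e i j * e i j = 1 := nil.cl_sq h (c.cl i j)

theorem ccm (c : ChtG Om D e) (nil : NilS Om D) (i j k l : I) : e i j * e k l = e k l * e i j :=
  nil.cl_comm (c.cl i j) (c.cl k l)

theorem csy (c : ChtG Om D e) (nil : NilS Om D) (h : WM Om) (i j : I) : e i j = e j i := by
  have h1 : e i j * e j i = 1 := by rw [c.add, cself c]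
  exact mul_left_cancel ((csq c nil h i j).trans h1.symm)

theorem cadd' (c : ChtG Om D e) (nil : NilS Om D) (h : WM Om) (i j k : I) : e i j * e i k = e j k := by
  rw [csy c nil h i j, c.add]

/-- `e i j e k l = e i k e j l` -/
theorem cq (c : ChtG Om D e) (nil : NilS Om D) (h : WM Om) (i j k l : I) : e i j * e k l = e i k * e j l := by
  rw [← c.add i k j, mul_assoc, cadd' c nil h k j l]

theorem not_swp_one (hz : InZ Om z) : ¬ Swp Om z 1 := by
  obtain ⟨K, hK⟩ := hz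
  intro h1
  exact h1.2 K hK (cj_one K)

/-- the parity of a point -/
theorem par_in (hd : Dst i j k l) (hp : p = i ∨ p = j ∨ p = k ∨ p = l) : (dl i p + dl j p + dl k p + dl l p : ZMod 2) = 1 := by
  rcases hp with rfl | rfl | rfl | rfl
  · rw [dl_self, dl_ne hd.ij.symm, dl_ne hd.ik.symm, dl_ne hd.il.symm]; decide
  · rw [dl_self, dl_ne hd.ij, dl_ne hd.jk.symm, dl_ne hd.jl.symm]; decide
  · rw [dl_self, dl_ne hd.ik, dl_ne hd.jk, dl_ne hd.kl.symm]; decide
  · rw [dl_self, dl_ne hd.il, dl_ne hd.jl, dl_ne hd.kl]; decide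

theorem par_out (h1 : p ≠ i) (h2 : p ≠ j) (h3 : p ≠ k) (h4 : p ≠ l) : (dl i p + dl j p + dl k p + dl l p : ZMod 2) = 0 := by
  rw [dl_ne h1.symm, dl_ne h2.symm, dl_ne h3.symm, dl_ne h4.symm]; decide

/-- `e p q ≠ 1` -/
theorem cne (c : ChtG Om D e) (nil : NilS Om D) (hd : Dst i k l m) (h1 : p ≠ i) (h2 : p ≠ k) (h3 : p ≠ l)
    (h4 : p ≠ m) : e i p ≠ 1 := by
  intro h0
  have h5 := (c.swp i k l m hd i p).2 (by rw [par_in hd (Or.inl rfl), par_out h1 h2 h3 h4]; decide)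
  rw [h0] at h5
  exact not_swp_one (nil.inZ _ (c.mem i k l m hd)) h5

/-- two elements of order 4 of `K` commuting with `t` of type I -/
theorem eq_of_ti (h : WM Om) (hti : TI Om u t) (hK : Mem Om u K) (hy : y ∈ K) (hyy : y * y = u) (hy' : y' ∈ K)
    (hyy' : y' * y' = u) (hc : t * y = y * t) (hc' : t * y' = y' * t) : y' = y ∨ y' = u * y := by
  obtain ⟨a, ha, haa⟩ := hti.exists_as h hK
  have key : ∀ y ∈ K, y * y = u → t * y = y * t → y = a ∨ y = u * a := by
    intro y hy hyy hc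
    have h1 := ha.2 y hy
    rw [hc, mul_inv_cancel_right, eq_mul_inv_iff_mul_eq] at h1
    rcases hK.of_comm h ha.1 haa hy h1.symm with h2 | h2 | h2 | h2
    · rw [h2, one_mul] at hyy; exact absurd hyy.symm (hK.inZ.z1 h)
    · rw [h2, hK.inZ.z2 h] at hyy; exact absurd hyy.symm (hK.inZ.z1 h)
    · exact Or.inl h2
    · exact Or.inr h2
  have uu := hK.inZ.z2 h
  rcases key y hy hyy hc with h1 | h1 <;> rcases key y' hy' hyy' hc' with h2 | h2
  · left; rw [h1, h2]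
  · right; rw [h1, h2]
  · right; rw [h1, h2, ← mul_assoc, uu, one_mul]
  · left; rw [h1, h2]

namespace W3

variable (h : W3 Om)

include h

theorem nilS (hz : InZ Om z) : NilS Om (A0 Om z) where
  inZ := fun _ hb => hb.1
  comm := fun _ hb _ hc => h.comm hz hb hc
  nor := fun _ hb _ hy _ hc => h.conj_mem hc (cp_RZ h.w hb.2.symm hy (z_mem_RZ hz h.w))

theorem z_nmem : z ∉ A0 Om z := fun h1 => h1.2.1 rfl

/-- **disjoint four-sets** -/
theorem disj (hz : InZ Om z) (c : ChtG Om (A0 Om z) e) (hd : Dst i j k l) {p q r s : I} (hd' : Dst p q r s)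
    (hdis : ∀ m, (m = p ∨ m = q ∨ m = r ∨ m = s) → m ≠ i ∧ m ≠ j ∧ m ≠ k ∧ m ≠ l) :
    e p q * e r s = z * (e i j * e k l) := by
  have nil := h.nilS hz
  obtain ⟨u, hu⟩ : ∃ u, u = e i j * e k l := ⟨_, rfl⟩
  obtain ⟨t, ht⟩ : ∃ t, t = e p q * e r s := ⟨_, rfl⟩
  have huD : u ∈ A0 Om z := by rw [hu]; exact c.mem i j k l hd
  have htD : t ∈ A0 Om z := by rw [ht]; exact c.mem p q r s hd'
  have dp := hdis p (Or.inl rfl)
  have dq := hdis q (Or.inr (Or.inl rfl))
  have dr := hdis r (Or.inr (Or.inr (Or.inl rfl)))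
  have ds := hdis s (Or.inr (Or.inr (Or.inr rfl)))
  have hne : u ≠ t := by
    intro h1
    rw [hu, ht] at h1
    rcases c.inj _ _ _ _ _ _ _ _ hd hd' h1 with h2 | h2 | h2 | h2
    · exact dp.1 h2
    · exact dp.2.1 h2
    · exact dp.2.2.1 h2
    · exact dp.2.2.2 h2
  rw [← hu, ← ht]
  rcases h.dich hz huD htD hne with h1 | h1 | ⟨h1, -⟩
  · exact h1
  · exfalso
    have u1 := huD.1.z1 h.w
    -- the fixed points
    have fix : ∀ {i' j' k' l' : I} {y : G}, (∀ m, (m = i' ∨ m = j' ∨ m = k' ∨ m = l') ↔ (m = i ∨ m = j ∨ m = k ∨ m = l)) →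
        (∀ p q, y * e p q * y⁻¹ = e (Equiv.swap i' j' (Equiv.swap k' l' p)) (Equiv.swap i' j' (Equiv.swap k' l' q))) →
        t * y = y * t := by
      intro i' j' k' l' y hs hy
      have f : ∀ m, (m = p ∨ m = q ∨ m = r ∨ m = s) → Equiv.swap i' j' (Equiv.swap k' l' m) = m := by
        intro m hm
        have h2 := hdis m hm
        have h3 : ¬ (m = i' ∨ m = j' ∨ m = k' ∨ m = l') := by
          rw [hs]
          rintro (h4 | h4 | h4 | h4)
          · exact h2.1 h4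
          · exact h2.2.1 h4
          · exact h2.2.2.1 h4
          · exact h2.2.2.2 h4
        push Not at h3
        rw [Equiv.swap_apply_of_ne_of_ne h3.2.2.1 h3.2.2.2, Equiv.swap_apply_of_ne_of_ne h3.1 h3.2.1]
      have h2 := hy p q
      have h3 := hy r s
      rw [f p (Or.inl rfl), f q (Or.inr (Or.inl rfl)), mul_inv_eq_iff_eq_mul] at h2
      rw [f r (Or.inr (Or.inr (Or.inl rfl))), f s (Or.inr (Or.inr (Or.inr rfl))), mul_inv_eq_iff_eq_mul] at h3
      rw [ht]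
      calc e p q * e r s * y = e p q * (e r s * y) := by group
        _ = (e p q * y) * e r s := by rw [← h3]; group
        _ = _ := by rw [← h2]; group
    obtain ⟨K₁, hK₁, y₁, m1, s1, a1⟩ := c.act i j k l hd
    obtain ⟨K₂, hK₂, y₂, m2, s2, a2⟩ := c.act i k j l ⟨hd.ik, hd.ij, hd.il, hd.jk.symm, hd.kl, hd.jl⟩
    obtain ⟨K₃, hK₃, y₃, m3, s3, a3⟩ := c.act i l j k ⟨hd.il, hd.ij, hd.ik, hd.jl.symm, hd.kl.symm, hd.jk⟩
    have q2 : e i k * e j l = u := by rw [hu, cq c nil h.w]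
    have q3 : e i l * e j k = u := by rw [hu, csy c nil h.w k l, cq c nil h.w i j l k]
    rw [← hu] at hK₁ s1
    rw [q2] at hK₂ s2
    rw [q3] at hK₃ s3
    have c1 : t * y₁ = y₁ * t := fix (fun m => Iff.rfl) a1
    have c2 : t * y₂ = y₂ * t := fix (fun m => by tauto) a2
    have c3 : t * y₃ = y₃ * t := fix (fun m => by tauto) a3
    -- equal actions
    have cu : ∀ p q, u * e p q = e p q * u := fun p q => by
      rw [hu]
      exact nil.cl_comm (Subgroup.mul_mem _ (c.cl _ _) (c.cl _ _)) (c.cl _ _)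
    have act : ∀ {y y' : G}, (y' = y ∨ y' = u * y) → y * u = u * y → ∀ p q, y' * e p q * y'⁻¹ = y * e p q * y⁻¹ := by
      rintro y y' (rfl | rfl) hyu p q
      · rfl
      · rw [← hyu]
        calc y * u * e p q * (y * u)⁻¹ = y * (u * e p q) * u⁻¹ * y⁻¹ := by group
          _ = y * (e p q * u) * u⁻¹ * y⁻¹ := by rw [cu]
          _ = _ := by group
    have two : K₁ = K₂ ∨ K₁ = K₃ ∨ K₂ = K₃ := by
      by_cases h2 : K₁ = K₂
      · exact Or.inl h2
      · rcases hK₁.cases hK₂ h.w h2 hK₃ with h3 | h3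
        · exact Or.inr (Or.inl h3.symm)
        · exact Or.inr (Or.inr h3.symm)
    rcases two with h2 | h2 | h2
    · subst h2
      have h3 := act (eq_of_ti h.w h1 hK₁ m1 s1 m2 s2 c1 c2) (hK₁.comm_z h.w m1) i k
      rw [a1, a2, Equiv.swap_apply_of_ne_of_ne hd.ij hd.il, Equiv.swap_apply_left,
        Equiv.swap_apply_of_ne_of_ne hd.jk.symm hd.kl, Equiv.swap_apply_right,
        Equiv.swap_apply_of_ne_of_ne hd.ik hd.il, Equiv.swap_apply_left, Equiv.swap_apply_left,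
        Equiv.swap_apply_of_ne_of_ne hd.il.symm hd.jl.symm] at h3
      -- `e k i = e j l`
      rw [← h3, csy c nil h.w k i, csq c nil h.w] at q2
      exact u1 q2.symm
    · subst h2
      have h3 := act (eq_of_ti h.w h1 hK₁ m1 s1 m3 s3 c1 c3) (hK₁.comm_z h.w m1) i l
      rw [a1, a3, Equiv.swap_apply_of_ne_of_ne hd.ij hd.ik, Equiv.swap_apply_left,
        Equiv.swap_apply_of_ne_of_ne hd.jl.symm hd.kl.symm, Equiv.swap_apply_right,
        Equiv.swap_apply_of_ne_of_ne hd.ik hd.il, Equiv.swap_apply_left, Equiv.swap_apply_right,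
        Equiv.swap_apply_of_ne_of_ne hd.ik.symm hd.jk.symm] at h3
      rw [← h3, csy c nil h.w l i, csq c nil h.w] at q3
      exact u1 q3.symm
    · subst h2
      have h3 := act (eq_of_ti h.w h1 hK₂ m2 s2 m3 s3 c2 c3) (hK₂.comm_z h.w m2) i l
      rw [a2, a3, Equiv.swap_apply_of_ne_of_ne hd.ij hd.ik, Equiv.swap_apply_left,
        Equiv.swap_apply_of_ne_of_ne hd.jl.symm hd.kl.symm, Equiv.swap_apply_right,
        Equiv.swap_apply_of_ne_of_ne hd.ij hd.il, Equiv.swap_apply_left, Equiv.swap_apply_right,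
        Equiv.swap_apply_of_ne_of_ne hd.ij.symm hd.jk] at h3
      rw [csy c nil h.w k j] at h3
      rw [← h3, csy c nil h.w l i, csq c nil h.w] at q3
      exact u1 q3.symm
  · exfalso
    have h2 : ¬ Swp Om u t := by
      have n1 : ¬ Swp Om u (e p q) := by
        rw [hu, c.swp i j k l hd, par_out dp.1 dp.2.1 dp.2.2.1 dp.2.2.2, par_out dq.1 dq.2.1 dq.2.2.1 dq.2.2.2]
        decide
      have n2 : ¬ Swp Om u (e r s) := by
        rw [hu, c.swp i j k l hd, par_out dr.1 dr.2.1 dr.2.2.1 dr.2.2.2, par_out ds.1 ds.2.1 ds.2.2.1 ds.2.2.2]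
        decide
      rw [ht, swp_mul h.w huD.1 (nil.comm_cl huD (c.cl p q)) (nil.comm_cl huD (c.cl r s))]
      exact ⟨fun h3 => absurd h3 n1, fun h3 => absurd h3 n2⟩
    exact h2 h1

/-- **four-sets meeting in two points** -/
theorem ti2 (hz : InZ Om z) (c : ChtG Om (A0 Om z) e) (hd : Dst i j k l) (hd' : Dst i j m p) (hd'' : Dst k l m p) :
    TI Om (e i j * e k l) (e i j * e m p) := by
  have nil := h.nilS hz
  obtain ⟨u, hu⟩ : ∃ u, u = e i j * e k l := ⟨_, rfl⟩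
  obtain ⟨t, ht⟩ : ∃ t, t = e i j * e m p := ⟨_, rfl⟩
  have huD : u ∈ A0 Om z := by rw [hu]; exact c.mem i j k l hd
  have htD : t ∈ A0 Om z := by rw [ht]; exact c.mem i j m p hd'
  have hut : u * t = e k l * e m p := by
    rw [hu, ht, ccm c nil i j k l, mul_assoc, ← mul_assoc (e i j), csq c nil h.w, one_mul]
  have hutD : u * t ∈ A0 Om z := by rw [hut]; exact c.mem k l m p hd''
  have hne : u ≠ t := by
    intro h1
    rw [← h1, huD.1.z2 h.w] at hutD
    exact hutD.1.z1 h.w rfl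
  rw [← hu, ← ht]
  rcases h.dich hz huD htD hne with h1 | h1 | ⟨h1, -⟩
  · exfalso
    rw [h1, h.comm_z hz huD, ← mul_assoc, huD.1.z2 h.w, one_mul] at hutD
    exact h.z_nmem hutD
  · exact h1
  · exfalso
    have h2 : ¬ Swp Om u t := by
      have n1 : ¬ Swp Om u (e i j) := by
        rw [hu, c.swp i j k l hd, par_in hd (Or.inl rfl), par_in hd (Or.inr (Or.inl rfl))]
        decide
      have n2 : ¬ Swp Om u (e m p) := by
        rw [hu, c.swp i j k l hd, par_out hd'.ik.symm hd'.jk.symm hd''.ik.symm hd''.jk.symm,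
          par_out hd'.il.symm hd'.jl.symm hd''.il.symm hd''.jl.symm]
        decide
      rw [ht, swp_mul h.w huD.1 (nil.comm_cl huD (c.cl i j)) (nil.comm_cl huD (c.cl m p))]
      exact ⟨fun h3 => absurd h3 n1, fun h3 => absurd h3 n2⟩
    exact h2 h1

/-- `a₀(z)` is linked -/
theorem ing (hz : InZ Om z) {n : ℕ} (hn : 5 ≤ n) {e : Fin n → Fin n → G} (c : ChtG Om (A0 Om z) e)
    (hall : ∀ v ∈ A0 Om z, InG e v ∨ ((∀ i j, ¬ Swp Om v (e i j)) ∧ ∀ i j k l, Dst i j k l → CP Om v (e i j * e k l)))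
    (hv : v ∈ A0 Om z) : InG e v := by
  refine (hall v hv).resolve_right fun h1 => ?_
  obtain ⟨-, h1⟩ := h1
  have nil := h.nilS hz
  have hlt : ∀ m, m < 5 → m < n := fun m hm => by omega
  obtain ⟨p, hp⟩ : ∃ p : Fin 5 → Fin n, Function.Injective p := by
    refine ⟨fun m => ⟨m, hlt _ m.2⟩, fun a b hab => ?_⟩
    exact Fin.ext (Fin.mk.inj_iff.1 hab)
  have hd1 : Dst (p 0) (p 1) (p 2) (p 3) := by
    constructor <;> exact fun h2 => absurd (hp h2) (by decide)
  have hd2 : Dst (p 4) (p 1) (p 2) (p 3) := by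
    constructor <;> exact fun h2 => absurd (hp h2) (by decide)
  have m1 := c.mem _ _ _ _ hd1
  have m2 := c.mem _ _ _ _ hd2
  have e1 := h.third z v _ hz hv.1 m1.1 hv.2 m1.2 (h1 _ _ _ _ hd1)
  have e2 := h.third z v _ hz hv.1 m2.1 hv.2 m2.2 (h1 _ _ _ _ hd2)
  rcases c.inj _ _ _ _ _ _ _ _ hd1 hd2 (e1.trans e2.symm) with h2 | h2 | h2 | h2
  · exact absurd (hp h2) (by decide)
  · exact absurd (hp h2) (by decide)
  · exact absurd (hp h2) (by decide)
  · exact absurd (hp h2) (by decide)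

end W3

end Fin

/-- `v` is the four-set `i j k l` -/
def Rp {I : Type*} (e : I → I → G) (v : G) (i j k l : I) : Prop := Dst i j k l ∧ v = e i j * e k l

section Fin

variable [Finite G]

theorem Rp.s1 (c : ChtG Om D e) (nil : NilS Om D) (h : WM Om) (r : Rp e v i j k l) : Rp e v j i k l :=
  ⟨⟨r.1.ij.symm, r.1.jk, r.1.jl, r.1.ik, r.1.il, r.1.kl⟩, by rw [r.2, csy c nil h i j]⟩

theorem Rp.s2 (c : ChtG Om D e) (nil : NilS Om D) (h : WM Om) (r : Rp e v i j k l) : Rp e v i k j l :=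
  ⟨⟨r.1.ik, r.1.ij, r.1.il, r.1.jk.symm, r.1.kl, r.1.jl⟩, by rw [r.2, cq c nil h]⟩

theorem Rp.s3 (c : ChtG Om D e) (nil : NilS Om D) (r : Rp e v i j k l) : Rp e v k l i j :=
  ⟨⟨r.1.kl, r.1.ik.symm, r.1.jk.symm, r.1.il.symm, r.1.jl.symm, r.1.ij⟩, by rw [r.2, ccm c nil]⟩

/-- the second point first -/
theorem Rp.t2 (c : ChtG Om D e) (nil : NilS Om D) (h : WM Om) (r : Rp e v i j k l) : Rp e v j i k l := r.s1 c nil h
theorem Rp.t3 (c : ChtG Om D e) (nil : NilS Om D) (h : WM Om) (r : Rp e v i j k l) : Rp e v k l i j := r.s3 c nil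
theorem Rp.t4 (c : ChtG Om D e) (nil : NilS Om D) (h : WM Om) (r : Rp e v i j k l) : Rp e v l k i j := (r.s3 c nil).s1 c nil h

namespace W3

variable (h : W3 Om)

include h

theorem key1 (hz : InZ Om z) (c : ChtG Om (A0 Om z) e) (hu : u ∈ A0 Om z) {k' l' : I} (r : Rp e u i j k l)
    (r' : Rp e (z * u) i j k' l') : False := by
  have nil := h.nilS hz
  have hz1 : z = e k l * e k' l' := by
    have h1 : z = u * (z * u) := by rw [h.comm_z hz hu, ← mul_assoc, hu.1.z2 h.w, one_mul]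
    rw [h1, r'.2, r.2, ccm c nil i j k l, mul_assoc, ← mul_assoc (e i j), csq c nil h.w, one_mul]
  have ns : ¬ Swp Om u z := fun h1 => sw_ncp h1 h.w hu.1 hz hu.2.symm
  have z1 := hz.z1 h.w
  have sw : ∀ p q, (p = k ∨ p = l) → q ≠ i → q ≠ j → q ≠ k → q ≠ l → z ≠ e p q := by
    intro p q hp h1 h2 h3 h4 h5
    apply ns
    rw [h5, r.2, c.swp i j k l r.1, par_in r.1 (by tauto), par_out h1 h2 h3 h4]
    decide
  by_cases a1 : k' = k
  · rw [a1, cadd' c nil h.w] at hz1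
    by_cases a2 : l' = l
    · rw [a2, cself c] at hz1; exact z1 hz1
    · exact sw l l' (Or.inr rfl) r'.1.il.symm r'.1.jl.symm (fun h1 => r'.1.kl (by rw [a1, h1])) a2 hz1
  by_cases a2 : k' = l
  · rw [a2, c.add] at hz1
    by_cases a3 : l' = k
    · rw [a3, cself c] at hz1; exact z1 hz1
    · exact sw k l' (Or.inl rfl) r'.1.il.symm r'.1.jl.symm a3 (fun h1 => r'.1.kl (by rw [a2, h1])) hz1
  by_cases a3 : l' = k
  · rw [a3, csy c nil h.w k' k, cadd' c nil h.w] at hz1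
    exact sw l k' (Or.inr rfl) r'.1.ik.symm r'.1.jk.symm a1 a2 hz1
  by_cases a4 : l' = l
  · rw [a4, csy c nil h.w k' l, c.add] at hz1
    exact sw k k' (Or.inl rfl) r'.1.ik.symm r'.1.jk.symm a1 a2 hz1
  have h1 := c.mem k l k' l' ⟨r.1.kl, Ne.symm a1, Ne.symm a3, Ne.symm a2, Ne.symm a4, r'.1.kl⟩
  rw [← hz1] at h1
  exact h.z_nmem h1

theorem key2 (hz : InZ Om z) (c : ChtG Om (A0 Om z) e) (hu : u ∈ A0 Om z) {j' k' l' : I} (r : Rp e u i j k l)
    (r' : Rp e (z * u) i j' k' l') : False := by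
  have nil := h.nilS hz
  have key : ∀ {j' k' l' : I}, Rp e (z * u) i j' k' l' → j' ≠ j ∧ j' ≠ k ∧ j' ≠ l := by
    intro j' k' l' r'
    refine ⟨?_, ?_, ?_⟩
    · rintro rfl; exact h.key1 hz c hu r r'
    · rintro rfl; exact h.key1 hz c hu (r.s2 c nil h.w) r'
    · rintro rfl
      exact h.key1 hz c hu ((((r.s3 c nil).s1 c nil h.w).s2 c nil h.w).s1 c nil h.w) r'
  have k1 := key r'
  have k2 := key (r'.s2 c nil h.w)
  have k3 := key ((((r'.s3 c nil).s1 c nil h.w).s2 c nil h.w).s1 c nil h.w)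
  have hzu := h.mul_mem hz hu
  have s1 : Swp Om u (e i j') := by
    rw [r.2, c.swp i j k l r.1, par_in r.1 (Or.inl rfl), par_out r'.1.ij.symm k1.1 k1.2.1 k1.2.2]
    decide
  have s2 : ¬ Swp Om u (e k' l') := by
    rw [r.2, c.swp i j k l r.1, par_out r'.1.ik.symm k2.1 k2.2.1 k2.2.2, par_out r'.1.il.symm k3.1 k3.2.1 k3.2.2]
    decide
  have h1 := swp_mul h.w hu.1 (nil.comm_cl hu (c.cl i j')) (nil.comm_cl hu (c.cl k' l'))
  rw [← r'.2] at h1
  have h2 : Swp Om u (z * u) := by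
    by_contra h2
    exact s2 ((h1.1 h2).1 s1)
  exact sw_ncp h2 h.w hu.1 hzu.1 (h.mul_mem' hz hu).2

/-- **eight points** -/
theorem eight (hz : InZ Om z) (hp : Pat1 Om (A0 Om z)) (hu : u ∈ A0 Om z) (hv : v ∈ A0 Om z) (hs : Swp Om u v) :
    ∃ e : Fin 8 → Fin 8 → G, ChtG Om (A0 Om z) e ∧ ∀ v ∈ A0 Om z, InG e v := by
  have nil := h.nilS hz
  obtain ⟨n, hn, e, c, ⟨i, j, k, l, hd, hue⟩, hall⟩ := nil.exists_block h.w hp hu ⟨v, hv, hs⟩
  have hin : ∀ v ∈ A0 Om z, InG e v := fun v hv => h.ing hz hn c hall hv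
  obtain ⟨i', j', k', l', hd', hze⟩ := hin _ (h.mul_mem hz hu)
  have r : Rp e u i j k l := ⟨hd, hue⟩
  have r' : Rp e (z * u) i' j' k' l' := ⟨hd', hze⟩
  -- the two four-sets are disjoint
  have key : ∀ {i j k l i' j' k' l' : Fin n}, Rp e u i j k l → Rp e (z * u) i' j' k' l' → i ≠ i' := by
    rintro i j k l i' j' k' l' r r' rfl
    exact h.key2 hz c hu r r'
  have hdis : ∀ m m', (m = i ∨ m = j ∨ m = k ∨ m = l) → (m' = i' ∨ m' = j' ∨ m' = k' ∨ m' = l') → m ≠ m' := by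
    have key' : ∀ {i j k l i' j' k' l' : Fin n}, Rp e u i j k l → Rp e (z * u) i' j' k' l' →
        i ≠ i' ∧ i ≠ j' ∧ i ≠ k' ∧ i ≠ l' := fun r r' =>
      ⟨key r r', key r (r'.s1 c nil h.w), key r (r'.s3 c nil), key r ((r'.s3 c nil).s1 c nil h.w)⟩
    have a1 := key' r r'
    have a2 := key' (r.s1 c nil h.w) r'
    have a3 := key' (r.s3 c nil) r'
    have a4 := key' ((r.s3 c nil).s1 c nil h.w) r'
    rintro m m' (rfl | rfl | rfl | rfl) (rfl | rfl | rfl | rfl)
    all_goals tauto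
  -- every point is one of the eight
  have hcov : ∀ m, m = i ∨ m = j ∨ m = k ∨ m = l ∨ m = i' ∨ m = j' ∨ m = k' ∨ m = l' := by
    intro m
    by_contra hm
    push Not at hm
    obtain ⟨b1, b2, b3, b4, b5, b6, b7, b8⟩ := hm
    have hd'' : Dst m i' j' k' := ⟨b5, b6, b7, hd'.ij, hd'.ik, hd'.jk⟩
    have h1 := h.disj hz c hd hd'' (by
      rintro p (rfl | rfl | rfl | rfl)
      · exact ⟨b1, b2, b3, b4⟩
      · exact ⟨(hdis i p (Or.inl rfl) (Or.inl rfl)).symm, (hdis j p (by tauto) (Or.inl rfl)).symm,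
          (hdis k p (by tauto) (Or.inl rfl)).symm, (hdis l p (by tauto) (Or.inl rfl)).symm⟩
      · exact ⟨(hdis i p (Or.inl rfl) (by tauto)).symm, (hdis j p (by tauto) (by tauto)).symm,
          (hdis k p (by tauto) (by tauto)).symm, (hdis l p (by tauto) (by tauto)).symm⟩
      · exact ⟨(hdis i p (Or.inl rfl) (by tauto)).symm, (hdis j p (by tauto) (by tauto)).symm,
          (hdis k p (by tauto) (by tauto)).symm, (hdis l p (by tauto) (by tauto)).symm⟩)
    rw [← hue, hze] at h1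
    rcases c.inj _ _ _ _ _ _ _ _ hd' hd'' h1.symm with h2 | h2 | h2 | h2
    · exact b5 h2
    · exact b6 h2
    · exact b7 h2
    · exact b8 h2
  -- the bijection
  obtain ⟨f, hf⟩ : ∃ f : Fin 8 → Fin n, f = ![i, j, k, l, i', j', k', l'] := ⟨_, rfl⟩
  have f0 : f 0 = i := by rw [hf]; rfl
  have f1 : f 1 = j := by rw [hf]; rfl
  have f2 : f 2 = k := by rw [hf]; rfl
  have f3 : f 3 = l := by rw [hf]; rfl
  have f4 : f 4 = i' := by rw [hf]; rfl
  have f5 : f 5 = j' := by rw [hf]; rfl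
  have f6 : f 6 = k' := by rw [hf]; rfl
  have f7 : f 7 = l' := by rw [hf]; rfl
  have hsurj : Function.Surjective f := by
    intro m
    rcases hcov m with h1 | h1 | h1 | h1 | h1 | h1 | h1 | h1
    · exact ⟨0, by rw [f0, h1]⟩
    · exact ⟨1, by rw [f1, h1]⟩
    · exact ⟨2, by rw [f2, h1]⟩
    · exact ⟨3, by rw [f3, h1]⟩
    · exact ⟨4, by rw [f4, h1]⟩
    · exact ⟨5, by rw [f5, h1]⟩
    · exact ⟨6, by rw [f6, h1]⟩
    · exact ⟨7, by rw [f7, h1]⟩
  have hle : n ≤ 8 := by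
    have := Fintype.card_le_of_surjective f hsurj
    simpa using this
  have hge : 8 ≤ n := by
    have hnd : [i, j, k, l, i', j', k', l'].Nodup := by
      have d : ∀ m m', (m = i ∨ m = j ∨ m = k ∨ m = l) → (m' = i' ∨ m' = j' ∨ m' = k' ∨ m' = l') → m ≠ m' := hdis
      simp only [List.nodup_cons, List.mem_cons, List.not_mem_nil, or_false, not_or, List.nodup_nil,
        not_false_eq_true, and_true]
      refine ⟨⟨hd.ij, hd.ik, hd.il, ?_, ?_, ?_, ?_⟩, ⟨hd.jk, hd.jl, ?_, ?_, ?_, ?_⟩, ⟨hd.kl, ?_, ?_, ?_, ?_⟩,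
        ⟨?_, ?_, ?_, ?_⟩, ⟨hd'.ij, hd'.ik, hd'.il⟩, ⟨hd'.jk, hd'.jl⟩, hd'.kl⟩
      all_goals exact hdis _ _ (by tauto) (by tauto)
    have h1 := hnd.length_le_card
    simpa using h1
  have hn8 : n = 8 := le_antisymm hle hge
  subst hn8
  exact ⟨e, c, hin⟩

/-- `H8'` -/
theorem h8' (hp : ∀ z, InZ Om z → Pat1 Om (A0 Om z)) : H8' Om := by
  intro z u v hz hu hv hs
  obtain ⟨e, c, -⟩ := h.eight hz (hp z hz) hu hv hs
  have hd : Dst (0 : Fin 8) 1 2 3 := by constructor <;> decide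
  have hd' : Dst (0 : Fin 8) 1 4 5 := by constructor <;> decide
  have hd'' : Dst (2 : Fin 8) 3 4 5 := by constructor <;> decide
  exact ⟨_, c.mem _ _ _ _ hd, _, c.mem _ _ _ _ hd', h.ti2 hz c hd hd' hd''⟩

end W3

end Fin

end Cfsg.Agent.Cit.Nil.RTwoM.MThree
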