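import Cfsg.Agent.Cit.Nil.RTwoM.MThree.Chart

/-!
# S1309, (6b), (C3), `r = 2`, `m = 3`, `|T| = 4`: `H8`

`x ∈ Z ∩ C(z)` such that all moved `u ∈ a₀(z)` are swap pairs with `x u x⁻¹`; a chart on eight points.
`q(n) = β(n, n^x)` is additive, so it is given by `t : Fin 8 → F₂`, and the two-set `u + u^x` is a class of `t`.

* `comb` : four-sets meeting in an odd number of points; `W3.exists_t`; `W3.exists_pair`; **`W3.h8`** : `H8`.
-/

set_option autoImplicit false
set_option linter.style.haveILetI false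
set_option linter.unusedSectionVars false

namespace Cfsg.Agent.Cit.Nil.RTwoM.MThree

open Subgroup Cfsg Cfsg.Agent.Cit

open RTwo (Q3)
open RG (WR CP Ov InO Tr)
open RI (CS)
open Blk (Dst dl dl_self dl_ne)

variable {G : Type*} [Group G] {Om : Set (Subgroup G)} {K L M : Subgroup G} {D : Set G}
  {g g' n q r s u v w x y y' z : G} {I : Type*} [DecidableEq I] {e : I → I → G} {a b c d i j k l m p : I}

/-- four-sets of an eight-set meeting in an odd number of points -/
theorem comb (A B : Finset (Fin 8)) (hA : A.card = 4) (hB : B.card = 4) (ho : Odd (A ∩ B).card) :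
    ∃ p p', p ≠ p' ∧ ((∀ m, (m ∈ A ↔ ¬ m ∈ B) ↔ (m = p ∨ m = p')) ∨ ∀ m, (m ∈ A ↔ m ∈ B) ↔ (m = p ∨ m = p')) := by
  have h1 := Finset.card_union_add_card_inter A B
  have h2 : (A ∪ B).card ≤ 8 := by
    have := Finset.card_le_univ (A ∪ B)
    simpa using this
  have h3 : (A ∩ B).card ≤ 4 := by
    rw [← hA]; exact Finset.card_le_card Finset.inter_subset_left
  have h4 : ((A ∪ B) \ (A ∩ B)).card + (A ∩ B).card = (A ∪ B).card :=
    Finset.card_sdiff_add_card_eq_card (Finset.inter_subset_left.trans Finset.subset_union_left)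
  have h5 : ((A ∪ B) \ (A ∩ B)).card + ((A ∪ B) \ (A ∩ B))ᶜ.card = 8 := by
    rw [Finset.card_add_card_compl]; rfl
  obtain ⟨t, ht⟩ := ho
  have h6 : ((A ∪ B) \ (A ∩ B)).card = 2 ∨ ((A ∪ B) \ (A ∩ B))ᶜ.card = 2 := by omega
  rcases h6 with h6 | h6
  · obtain ⟨p, p', hne, h7⟩ := Finset.card_eq_two.1 h6
    refine ⟨p, p', hne, Or.inl fun m => ?_⟩
    have h8 : m ∈ (A ∪ B) \ (A ∩ B) ↔ m ∈ ({p, p'} : Finset (Fin 8)) := by rw [h7]
    rw [Finset.mem_sdiff, Finset.mem_union, Finset.mem_inter, Finset.mem_insert, Finset.mem_singleton] at h8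
    rw [← h8]
    tauto
  · obtain ⟨p, p', hne, h7⟩ := Finset.card_eq_two.1 h6
    refine ⟨p, p', hne, Or.inr fun m => ?_⟩
    have h8 : m ∈ ((A ∪ B) \ (A ∩ B))ᶜ ↔ m ∈ ({p, p'} : Finset (Fin 8)) := by rw [h7]
    rw [Finset.mem_compl, Finset.mem_sdiff, Finset.mem_union, Finset.mem_inter, Finset.mem_insert,
      Finset.mem_singleton] at h8
    rw [← h8]
    tauto

/-- the four-set -/
def fs (i j k l : Fin 8) : Finset (Fin 8) := {i, j, k, l}

theorem mem_fs {i j k l m : Fin 8} : m ∈ fs i j k l ↔ m = i ∨ m = j ∨ m = k ∨ m = l := by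
  simp [fs]

theorem card_fs {i j k l : Fin 8} (hd : Dst i j k l) : (fs i j k l).card = 4 := by
  rw [fs, Finset.card_insert_of_notMem, Finset.card_insert_of_notMem, Finset.card_insert_of_notMem,
    Finset.card_singleton]
  · simp [hd.kl]
  · simp [hd.jk, hd.jl]
  · simp [hd.ij, hd.ik, hd.il]

/-- the indicator -/
def ind (A : Finset (Fin 8)) (m : Fin 8) : ZMod 2 := if m ∈ A then 1 else 0

theorem par_eq {i j k l : Fin 8} (hd : Dst i j k l) (m : Fin 8) :
    (dl i m + dl j m + dl k m + dl l m : ZMod 2) = ind (fs i j k l) m := by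
  rw [ind]
  split_ifs with h1
  · exact par_in hd (mem_fs.1 h1)
  · rw [mem_fs] at h1
    push Not at h1
    exact par_out h1.1 h1.2.1 h1.2.2.1 h1.2.2.2

theorem sum_fs {i j k l : Fin 8} (hd : Dst i j k l) (φ : Fin 8 → ZMod 2) :
    ∑ m ∈ fs i j k l, φ m = φ i + φ j + φ k + φ l := by
  rw [fs, Finset.sum_insert, Finset.sum_insert, Finset.sum_insert, Finset.sum_singleton]
  · ring
  · simp [hd.kl]
  · simp [hd.jk, hd.jl]
  · simp [hd.ij, hd.ik, hd.il]

theorem sum_ind (A B : Finset (Fin 8)) : ∑ m ∈ A, ind B m = ((A ∩ B).card : ZMod 2) := by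
  rw [Finset.card_eq_sum_ones, Nat.cast_sum, ← Finset.filter_mem_eq_inter, Finset.sum_filter]
  exact Finset.sum_congr rfl fun m _ => by rw [ind, Nat.cast_one]

section Fin

variable [Finite G]

/-- the parity of two four-sets -/
theorem swp_fs {e : Fin 8 → Fin 8 → G} (ch : ChtG Om D e) (nil : NilS Om D) (h : WM Om) {i j k l i' j' k' l' : Fin 8}
    (hd : Dst i j k l) (hd' : Dst i' j' k' l') :
    Swp Om (e i j * e k l) (e i' j' * e k' l') ↔ ((fs i' j' k' l' ∩ fs i j k l).card : ZMod 2) = 1 := by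
  have hm := ch.mem _ _ _ _ hd
  have h1 := swp_mul h (nil.inZ _ hm) (nil.comm_cl hm (ch.cl i' j')) (nil.comm_cl hm (ch.cl k' l'))
  rw [ch.swp _ _ _ _ hd, ch.swp _ _ _ _ hd, par_eq hd, par_eq hd, par_eq hd, par_eq hd] at h1
  rw [← sum_ind, sum_fs hd']
  have h2 : ¬ (ind (fs i j k l) i' + ind (fs i j k l) j' + ind (fs i j k l) k' + ind (fs i j k l) l' = 1) ↔
      (ind (fs i j k l) i' + ind (fs i j k l) j' = 1 ↔ ind (fs i j k l) k' + ind (fs i j k l) l' = 1) := by
    generalize ind (fs i j k l) i' = a, ind (fs i j k l) j' = b, ind (fs i j k l) k' = c, ind (fs i j k l) l' = d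
    revert a b c d; decide
  exact not_iff_not.1 (h1.trans h2.symm)

/-- `x` centralising `r`, `s` in `R_v` with `r`, `s`, `r s ∉ ⟨v⟩` is not of type `f` at `v` -/
theorem nff (h : WM Om) (hv : InZ Om v) (hx : InZ Om x) (hr : r ∈ RZ Om v) (hs : s ∈ RZ Om v) (hxr : x * r = r * x)
    (hxs : x * s = s * x) (r1 : r ≠ 1) (r2 : r ≠ v) (s1 : s ≠ 1) (s2 : s ≠ v) (t1 : r * s ≠ 1) (t2 : r * s ≠ v) :
    ¬ Ff Om v x := by
  intro hf
  obtain ⟨K, hK⟩ := hv
  obtain ⟨L, hL, hne, -⟩ := hK.other h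
  obtain ⟨a, ha⟩ := hf.exists_tr h (hx.z2 h) hK
  obtain ⟨b, hb⟩ := hf.exists_tr h (hx.z2 h) hL
  have vv := hK.inZ.z2 h
  have hab := hK.comm hL h hne ha.mem hb.mem
  have hva := hK.comm_z h ha.mem
  have hvb := hL.comm_z h hb.mem
  have e0 : (a * b) * (a * b) = 1 := by
    calc (a * b) * (a * b) = a * (b * a) * b := by group
      _ = (a * a) * (b * b) := by rw [← hab]; group
      _ = 1 := by rw [Tr.sq' ha hK, Tr.sq' hb hL, vv]
  have e1 : v * (a * b) = (a * b) * v := by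
    calc v * (a * b) = (v * a) * b := by group
      _ = a * (v * b) := by rw [← hva]; group
      _ = _ := by rw [← hvb]; group
  rcases Ff.fix hf h hK hL hne ha hb hr hxr with h1 | h1 | h1 | h1
  · exact r1 h1
  · exact r2 h1
  all_goals
    rcases Ff.fix hf h hK hL hne ha hb hs hxs with h2 | h2 | h2 | h2
    · exact s1 h2
    · exact s2 h2
    · first
        | exact t1 (by rw [h1, h2, e0])
        | exact t2 (by rw [h1, h2, mul_assoc, e0, mul_one])
    · first
        | exact t2 (by rw [h1, h2, ← mul_assoc, ← e1, mul_assoc, e0, mul_one])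
        | exact t1 (by
            rw [h1, h2]
            calc v * (a * b) * (v * (a * b)) = v * ((a * b) * v) * (a * b) := by group
              _ = v * (v * (a * b)) * (a * b) := by rw [e1]
              _ = (v * v) * ((a * b) * (a * b)) := by group
              _ = 1 := by rw [vv, e0, mul_one])

namespace W3

variable (h : W3 Om)

include h

/-- `q(n) = β(n, n^x)` -/
theorem exists_t {e : Fin 8 → Fin 8 → G} (hz : InZ Om z) (ch : ChtG Om (A0 Om z) e) (hx : InZ Om x)
    (hc : x * z = z * x) (hall : ∀ u ∈ A0 Om z, x * u ≠ u * x → Swp Om u (x * u * x⁻¹)) :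
    ∃ t : Fin 8 → ZMod 2, ∀ i j k l, Dst i j k l →
      (x * (e i j * e k l) = (e i j * e k l) * x ↔ t i + t j + t k + t l = 0) := by
  have nil := h.nilS hz
  obtain ⟨N, _, _, ι, E⟩ := nil.exists_emb
  obtain ⟨β, F⟩ := nil.exists_form h.w E
  have hy : ∀ c ∈ A0 Om z, x * c * x⁻¹ ∈ A0 Om z := fun c hcc => h.conj_mem hcc hc
  obtain ⟨σ, hσ⟩ := E.exists_conj hy
  have hxx := hx.z2 h.w
  have σadd : ∀ n m, σ (n + m) = σ n + σ m := by
    intro n m
    apply E.inj
    rw [E.add, hσ, hσ, hσ, E.add]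
    group
  have σσ : ∀ n, σ (σ n) = n := by
    intro n
    apply E.inj
    rw [hσ, hσ]
    calc x * (x * ι n * x⁻¹) * x⁻¹ = (x * x) * ι n * (x * x)⁻¹ := by group
      _ = ι n := by rw [hxx, one_mul, inv_one, mul_one]
  obtain ⟨q, hq⟩ : ∃ q : N → ZMod 2, ∀ n, q n = β n (σ n) := ⟨fun n => β n (σ n), fun _ => rfl⟩
  have qadd : ∀ n m, q (n + m) = q n + q m := by
    intro n m
    have h1 : β n (σ m) = β m (σ n) := by
      rw [← F.conj nil h.w E hy hσ n (σ m), σσ, F.symm]
    rw [hq, hq, hq, σadd, F.addl, F.addr, F.addr, h1]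
    generalize β n (σ n) = a, β m (σ n) = b, β m (σ m) = c
    revert a b c; decide
  have h1 : ∀ i j, ∃ n, ι n = e i j := fun i j => E.ex (ch.cl i j)
  choose ε hε using h1
  refine ⟨fun i => q (ε 0 i), fun i j k l hd => ?_⟩
  have hs : ∀ i j, q (ε i j) = q (ε 0 i) + q (ε 0 j) := by
    intro i j
    rw [← qadd]
    congr 1
    apply E.inj
    rw [E.add, hε, hε, hε, cadd' ch nil h.w]
  have hm := ch.mem i j k l hd
  have h2 : ι (ε i j + ε k l) = e i j * e k l := by rw [E.add, hε, hε]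
  have h3 : q (ε i j + ε k l) = q (ε 0 i) + q (ε 0 j) + q (ε 0 k) + q (ε 0 l) := by
    rw [qadd, hs i j, hs k l, ← add_assoc]
  show _ ↔ q (ε 0 i) + q (ε 0 j) + q (ε 0 k) + q (ε 0 l) = 0
  rw [← h3, hq]
  constructor
  · intro h4
    have h5 : σ (ε i j + ε k l) = ε i j + ε k l := by
      apply E.inj
      rw [hσ, h2, h4, mul_inv_cancel_right]
    rw [h5, F.alt]
  · intro h4
    by_contra h5
    have h6 := hall _ hm h5
    rw [← h2, ← hσ] at h6
    rw [← h2] at hm
    rw [(F.swp hm).2 h6] at h4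
    exact absurd h4 (by decide)

/-- the moved four-sets are those containing one of `p`, `p'` -/
theorem exists_pair {e : Fin 8 → Fin 8 → G} (hz : InZ Om z) (ch : ChtG Om (A0 Om z) e) (hx : InZ Om x)
    (hin : ∀ v ∈ A0 Om z, InG e v)
    (hc : x * z = z * x) (hu : u ∈ A0 Om z) (hm : x * u ≠ u * x)
    (hall : ∀ u ∈ A0 Om z, x * u ≠ u * x → Swp Om u (x * u * x⁻¹)) :
    ∃ p p' : Fin 8, p ≠ p' ∧ ∃ t : Fin 8 → ZMod 2, (∀ i j k l, Dst i j k l →
      (x * (e i j * e k l) = (e i j * e k l) * x ↔ t i + t j + t k + t l = 0)) ∧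
      ∃ τ, t p = τ + 1 ∧ ∀ m, m ≠ p → m ≠ p' → t m = τ := by
  have nil := h.nilS hz
  obtain ⟨t, ht⟩ := h.exists_t hz ch hx hc hall
  have hu' := h.conj_mem hu hc
  obtain ⟨i, j, k, l, hd, e1⟩ := hin _ hu
  obtain ⟨i', j', k', l', hd', e2⟩ := hin _ hu'
  -- odd intersection
  have h1 := hall u hu hm
  rw [e2] at h1
  nth_rw 1 [e1] at h1
  rw [swp_fs ch nil h.w hd hd'] at h1
  have ho : Odd (fs i j k l ∩ fs i' j' k' l').card := by
    rw [Finset.inter_comm]
    have h2 := (ZMod.natCast_eq_one_iff_odd).1 h1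
    exact h2
  obtain ⟨p, p', hne, h2⟩ := comb _ _ (card_fs hd) (card_fs hd') ho
  -- the fixed four-sets
  have hfix : ∀ a b c d, Dst a b c d → t a + t b + t c + t d = 0 →
      ind (fs i j k l) a + ind (fs i j k l) b + ind (fs i j k l) c + ind (fs i j k l) d =
      ind (fs i' j' k' l') a + ind (fs i' j' k' l') b + ind (fs i' j' k' l') c + ind (fs i' j' k' l') d := by
    intro a b c d hab h3
    have h4 := (ht a b c d hab).2 h3
    have h5 : Swp Om (e a b * e c d) u ↔ Swp Om (e a b * e c d) (x * u * x⁻¹) := by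
      have h6 : x * (e a b * e c d) * x⁻¹ = e a b * e c d := by rw [h4, mul_inv_cancel_right]
      constructor
      · intro h7
        have h8 := h7.conj h.w x
        rwa [h6] at h8
      · intro h7
        have h8 := h7.conj h.w x
        rw [h6] at h8
        have hxx := hx.z2 h.w
        have h9 : x * (x * u * x⁻¹) * x⁻¹ = u := by
          calc x * (x * u * x⁻¹) * x⁻¹ = (x * x) * u * (x * x)⁻¹ := by group
            _ = u := by rw [hxx, one_mul, inv_one, mul_one]
        rwa [h9] at h8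
    rw [e2] at h5
    nth_rw 1 [e1] at h5
    rw [swp_fs ch nil h.w hab hd, swp_fs ch nil h.w hab hd', Finset.inter_comm, ← sum_ind, sum_fs hab,
      Finset.inter_comm (fs i' j' k' l'), ← sum_ind, sum_fs hab] at h5
    revert h5
    generalize ind (fs i j k l) a + ind (fs i j k l) b + ind (fs i j k l) c + ind (fs i j k l) d = P,
      ind (fs i' j' k' l') a + ind (fs i' j' k' l') b + ind (fs i' j' k' l') c + ind (fs i' j' k' l') d = Q
    revert P Q; decide
  -- `t m ≠ t p` outside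
  have hout : ∀ r r', r ≠ r' → (∀ m, (m = r ∨ m = r') ↔ (m = p ∨ m = p')) → ∀ m, m ≠ p → m ≠ p' → t m ≠ t r := by
    intro r r' hrr hrp m hm1 hm2 h3
    have hmr : m ≠ r := by
      intro h4
      rcases (hrp m).1 (Or.inl h4) with h5 | h5
      · exact hm1 h5
      · exact hm2 h5
    have hmr' : m ≠ r' := by
      intro h4
      rcases (hrp m).1 (Or.inr h4) with h5 | h5
      · exact hm1 h5
      · exact hm2 h5
    -- two points with the same value
    obtain ⟨a, ha, b, hb, hab, h4⟩ : ∃ a ∈ (Finset.univ \ {r, r', m} : Finset (Fin 8)),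
        ∃ b ∈ (Finset.univ \ {r, r', m} : Finset (Fin 8)), a ≠ b ∧ t a = t b := by
      refine Finset.exists_ne_map_eq_of_card_lt_of_maps_to (t := Finset.univ) ?_ fun _ _ => Finset.mem_coe.2 (Finset.mem_univ _)
      have h5 : ({r, r', m} : Finset (Fin 8)).card ≤ 3 := Finset.card_le_three
      have h6 := Finset.le_card_sdiff ({r, r', m} : Finset (Fin 8)) Finset.univ
      rw [Finset.card_univ, Fintype.card_fin] at h6
      rw [Finset.card_univ, ZMod.card]
      omega
    rw [Finset.mem_sdiff, Finset.mem_insert, Finset.mem_insert, Finset.mem_singleton] at ha hb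
    have ha' := ha.2
    have hb' := hb.2
    push Not at ha' hb'
    have hd'' : Dst r m a b := ⟨hmr.symm, ha'.1.symm, hb'.1.symm, ha'.2.2.symm, hb'.2.2.symm, hab⟩
    have h5 := hfix r m a b hd'' (by
      rw [h3, h4]
      generalize t r = P, t b = Q
      revert P Q; decide)
    have inr : r = p ∨ r = p' := (hrp r).1 (Or.inl rfl)
    have out : ∀ m, m ≠ r → m ≠ r' → ¬ (m = p ∨ m = p') := fun m h6 h7 h8 => by
      rcases (hrp m).2 h8 with h9 | h9
      · exact h6 h9
      · exact h7 h9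
    have om := out m hmr hmr'
    have oa := out a ha'.1 ha'.2.1
    have ob := out b hb'.1 hb'.2.1
    have hcase : ∀ A B : Finset (Fin 8), ∀ m, ((m ∈ A ↔ ¬ m ∈ B) → ind A m = ind B m + 1) ∧
        ((m ∈ A ↔ m ∈ B) → ind A m = ind B m) := by
      intro A B m
      unfold ind
      by_cases h1 : m ∈ A <;> by_cases h2 : m ∈ B <;> simp [h1, h2] <;> decide
    have hn1 : ∀ P Q : Prop, ¬ (P ↔ ¬ Q) → (P ↔ Q) := by intro P Q; by_cases h1 : P <;> by_cases h2 : Q <;> simp [h1, h2]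
    have hn2 : ∀ P Q : Prop, ¬ (P ↔ Q) → (P ↔ ¬ Q) := by intro P Q; by_cases h1 : P <;> by_cases h2 : Q <;> simp [h1, h2]
    rcases h2 with h2 | h2
    · have c1 := (hcase (fs i j k l) (fs i' j' k' l') r).1 ((h2 r).2 inr)
      have c2 := (hcase (fs i j k l) (fs i' j' k' l') m).2 (hn1 _ _ (mt (h2 m).1 om))
      have c3 := (hcase (fs i j k l) (fs i' j' k' l') a).2 (hn1 _ _ (mt (h2 a).1 oa))
      have c4 := (hcase (fs i j k l) (fs i' j' k' l') b).2 (hn1 _ _ (mt (h2 b).1 ob))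
      rw [c1, c2, c3, c4] at h5
      revert h5
      generalize ind (fs i' j' k' l') r = P, ind (fs i' j' k' l') m = Q, ind (fs i' j' k' l') a = R,
        ind (fs i' j' k' l') b = S
      revert P Q R S; decide
    · have c1 := (hcase (fs i j k l) (fs i' j' k' l') r).2 ((h2 r).2 inr)
      have c2 := (hcase (fs i j k l) (fs i' j' k' l') m).1 (hn2 _ _ (mt (h2 m).1 om))
      have c3 := (hcase (fs i j k l) (fs i' j' k' l') a).1 (hn2 _ _ (mt (h2 a).1 oa))
      have c4 := (hcase (fs i j k l) (fs i' j' k' l') b).1 (hn2 _ _ (mt (h2 b).1 ob))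
      rw [c1, c2, c3, c4] at h5
      revert h5
      generalize ind (fs i' j' k' l') r = P, ind (fs i' j' k' l') m = Q, ind (fs i' j' k' l') a = R,
        ind (fs i' j' k' l') b = S
      revert P Q R S; decide
  have ho1 := hout p p' hne (fun m => Iff.rfl)
  refine ⟨p, p', hne, t, ht, t p + 1, ?_, fun m h3 h4 => ?_⟩
  · generalize t p = P
    revert P; decide
  · have h5 := ho1 m h3 h4
    revert h5
    generalize t p = P, t m = Q
    revert P Q; decide

/-- `Fx` -/
theorem fx {I : Type*} [DecidableEq I] {e : I → I → G} {a b c d m p : I} (hz : InZ Om z) (ch : ChtG Om (A0 Om z) e)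
    (hx : InZ Om x) {t : I → ZMod 2}
    (ht : ∀ i j k l, Dst i j k l → (x * (e i j * e k l) = (e i j * e k l) * x ↔ t i + t j + t k + t l = 0))
    {τ : ZMod 2} (ta : t a = τ) (tb : t b = τ) (tc : t c = τ) (td : t d = τ) (tm : t m = τ) (tp : t p = τ + 1)
    (hd : Dst a b c d) (ma : m ≠ a) (mb : m ≠ b) (mc : m ≠ c) (md : m ≠ d) : Fx Om z x (e a b * e c d) := by
  have nil := h.nilS hz
  have pne : ∀ q, t q = τ → p ≠ q := by
    rintro q hq rfl
    rw [tp] at hq
    have h1 : ∀ τ : ZMod 2, τ + 1 ≠ τ := by decide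
    exact h1 τ hq
  have pa := pne a ta
  have pb := pne b tb
  have pc := pne c tc
  have pd := pne d td
  have pm := pne m tm
  have t4 : ∀ τ : ZMod 2, τ + τ + τ + τ = 0 := by decide
  -- the fixed pairs
  have key : ∀ {a b c d m : I}, t a = τ → t b = τ → t c = τ → t d = τ → t m = τ → Dst a b c d → m ≠ a → m ≠ b → m ≠ c →
      m ≠ d → x * e a b = e a b * x := by
    intro a b c d m ta tb tc td tm hd ma mb mc md
    have h1 := (ht a c d m ⟨hd.ik, hd.il, ma.symm, hd.kl, mc.symm, md.symm⟩).2 (by rw [ta, tc, td, tm]; exact t4 τ)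
    have h2 := (ht b c d m ⟨hd.jk, hd.jl, mb.symm, hd.kl, mc.symm, md.symm⟩).2 (by rw [tb, tc, td, tm]; exact t4 τ)
    have h3 : e a b = (e a c * e d m) * (e b c * e d m) := by
      rw [mul_assoc, ← mul_assoc (e d m), ccm ch nil d m b c, mul_assoc, csq ch nil h.w, mul_one,
        csy ch nil h.w b c, ch.add]
    rw [h3]
    calc x * ((e a c * e d m) * (e b c * e d m)) = (x * (e a c * e d m)) * (e b c * e d m) := by group
      _ = (e a c * e d m) * (x * (e b c * e d m)) := by rw [h1]; group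
      _ = _ := by rw [h2]; group
  have x1 := key ta tb tc td tm hd ma mb mc md
  have x2 := key ta tc tb td tm ⟨hd.ik, hd.ij, hd.il, hd.jk.symm, hd.kl, hd.jl⟩ ma mc mb md
  have hm := ch.mem a b c d hd
  refine ⟨hm, (ht a b c d hd).2 (by rw [ta, tb, tc, td]; exact t4 τ), ?_, ?_⟩
  · have hab1 : e a b ≠ 1 := cne ch nil (i := a) (k := c) (l := d) (m := m)
      ⟨hd.ik, hd.il, ma.symm, hd.kl, mc.symm, md.symm⟩ hd.ij.symm hd.jk hd.jl mb.symm
    have hcd1 : e c d ≠ 1 := cne ch nil (i := c) (k := a) (l := b) (m := m)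
      ⟨hd.ik.symm, hd.jk.symm, mc.symm, hd.ij, ma.symm, mb.symm⟩ hd.kl.symm hd.il.symm hd.jl.symm md.symm
    have hac1 : e a c ≠ 1 := cne ch nil (i := a) (k := b) (l := d) (m := m)
      ⟨hd.ij, hd.il, ma.symm, hd.jl, mb.symm, md.symm⟩ hd.ik.symm hd.jk.symm hd.kl mc.symm
    have hbd1 : e b d ≠ 1 := cne ch nil (i := b) (k := a) (l := c) (m := m)
      ⟨hd.ij.symm, hd.jk, mb.symm, hd.ik, ma.symm, mc.symm⟩ hd.jl.symm hd.il.symm hd.kl.symm md.symm
    have hbc1 : e b c ≠ 1 := cne ch nil (i := b) (k := a) (l := d) (m := m)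
      ⟨hd.ij.symm, hd.jl, mb.symm, hd.il, ma.symm, md.symm⟩ hd.jk.symm hd.ik.symm hd.kl mc.symm
    have had1 : e a d ≠ 1 := cne ch nil (i := a) (k := b) (l := c) (m := m)
      ⟨hd.ij, hd.ik, ma.symm, hd.jk, mb.symm, mc.symm⟩ hd.il.symm hd.jl.symm hd.kl.symm md.symm
    have hr2 : e a c ∈ RZ Om (e a b * e c d) := by
      rw [cq ch nil h.w]
      exact ch.inB a c b d ⟨hd.ik, hd.ij, hd.il, hd.jk.symm, hd.kl, hd.jl⟩
    refine nff h.w hm.1 hx (ch.inB a b c d hd) hr2 x1 x2 hab1 ?_ hac1 ?_ ?_ ?_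
    · intro h1; exact hcd1 (left_eq_mul.1 h1)
    · intro h1
      rw [cq ch nil h.w] at h1
      exact hbd1 (left_eq_mul.1 h1)
    · rw [cadd' ch nil h.w]; exact hbc1
    · rw [cadd' ch nil h.w]
      intro h1
      rw [csy ch nil h.w c d, cq ch nil h.w, ccm ch nil] at h1
      exact had1 (left_eq_mul.1 h1)
  · have hd1 : Dst a b p m := ⟨hd.ij, pa.symm, ma.symm, pb.symm, mb.symm, pm⟩
    refine ⟨_, ch.mem a b p m hd1, ?_, h.ti2 hz ch hd1 hd ⟨pm, pc, pd, mc, md, hd.kl⟩⟩
    rw [Ne, ht a b p m hd1, ta, tb, tp, tm]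
    have h1 : ∀ τ : ZMod 2, ¬ τ + τ + (τ + 1) + τ = 0 := by decide
    exact h1 τ

/-- **`H8`** -/
theorem h8 (hp : ∀ z, InZ Om z → Pat1 Om (A0 Om z)) : H8 Om := by
  rintro z x hz hx hc ⟨u, hu, hm⟩ hall
  obtain ⟨e, ch, hin⟩ := h.eight hz (hp z hz) hu (h.conj_mem hu hc) (hall u hu hm)
  obtain ⟨p, p', hne, t, ht, τ, tp, tout⟩ := h.exists_pair hz ch hx hin hc hu hm hall
  have nil := h.nilS hz
  -- a numbering of the points
  obtain ⟨f, hf0, hf1⟩ : ∃ f : Equiv.Perm (Fin 8), f 0 = p ∧ f 1 = p' := by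
    refine ⟨(Equiv.swap 0 p).trans (Equiv.swap ((Equiv.swap 0 p) 1) p'), ?_, ?_⟩
    · rw [Equiv.trans_apply, Equiv.swap_apply_left]
      refine Equiv.swap_apply_of_ne_of_ne (fun h1 => ?_) hne
      have h2 : (Equiv.swap 0 p) 0 = (Equiv.swap 0 p) 1 := by rw [Equiv.swap_apply_left]; exact h1
      exact absurd ((Equiv.swap 0 p).injective h2) (by decide)
    · rw [Equiv.trans_apply, Equiv.swap_apply_left]
  have hfo : ∀ i, i ≠ 0 → i ≠ 1 → t (f i) = τ := by
    intro i h0 h1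
    refine tout _ (fun h2 => h0 (f.injective ?_)) (fun h2 => h1 (f.injective ?_))
    · rw [h2, hf0]
    · rw [h2, hf1]
  have ne : ∀ {i j : Fin 8}, i ≠ j → f i ≠ f j := fun h1 h2 => h1 (f.injective h2)
  have dst : ∀ {i j k l : Fin 8}, Dst i j k l → Dst (f i) (f j) (f k) (f l) := fun hd =>
    ⟨ne hd.ij, ne hd.ik, ne hd.il, ne hd.jk, ne hd.jl, ne hd.kl⟩
  have tp0 : t (f 0) = τ + 1 := by rw [hf0, tp]
  have d1 : Dst (f 2) (f 3) (f 4) (f 5) := dst (by constructor <;> decide)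
  have d2 : Dst (f 2) (f 3) (f 6) (f 7) := dst (by constructor <;> decide)
  have d3 : Dst (f 4) (f 5) (f 6) (f 7) := dst (by constructor <;> decide)
  have T : ∀ i : Fin 8, i ≠ 0 → i ≠ 1 → t (f i) = τ := hfo
  refine ⟨_, _, h.ti2 hz ch d1 d2 d3, ?_, ?_, ?_⟩
  · exact h.fx hz ch hx ht (T 2 (by decide) (by decide)) (T 3 (by decide) (by decide)) (T 4 (by decide) (by decide))
      (T 5 (by decide) (by decide)) (T 6 (by decide) (by decide)) tp0 d1 (ne (by decide)) (ne (by decide))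
      (ne (by decide)) (ne (by decide))
  · exact h.fx hz ch hx ht (T 2 (by decide) (by decide)) (T 3 (by decide) (by decide)) (T 6 (by decide) (by decide))
      (T 7 (by decide) (by decide)) (T 4 (by decide) (by decide)) tp0 d2 (ne (by decide)) (ne (by decide))
      (ne (by decide)) (ne (by decide))
  · have h1 : e (f 2) (f 3) * e (f 4) (f 5) * (e (f 2) (f 3) * e (f 6) (f 7)) = e (f 4) (f 5) * e (f 6) (f 7) := by
      rw [ccm ch nil (f 2) (f 3) (f 4) (f 5), mul_assoc, ← mul_assoc (e (f 2) (f 3)), csq ch nil h.w, one_mul]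
    rw [h1]
    exact h.fx hz ch hx ht (T 4 (by decide) (by decide)) (T 5 (by decide) (by decide)) (T 6 (by decide) (by decide))
      (T 7 (by decide) (by decide)) (T 2 (by decide) (by decide)) tp0 d3 (ne (by decide)) (ne (by decide))
      (ne (by decide)) (ne (by decide))

end W3

end Fin

end Cfsg.Agent.Cit.Nil.RTwoM.MThree
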