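import Cfsg.Agent.Cit.Nil.RTwoM.MThree.Types

/-!
# S1309, (6b), (C3), `r = 2`, `m = 3`, `|T| = 4` (helper545, bb #18935): (7), STAR

* `Cn Om z w` : `w` is in the component of `z` of the C-graph;
* `W3.cn_comm`, `W3.cn_conj`; **`W3.cn`** : `x ∈ Z ∩ C(z)` is in the component of `z`;
* **`W3.star`** : `StarC Om`.
-/

set_option autoImplicit false
set_option linter.style.haveILetI false
set_option linter.unusedSectionVars false

namespace Cfsg.Agent.Cit.Nil.RTwoM.MThree

open Subgroup Cfsg Cfsg.Agent.Cit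

open RTwo (Q3)
open RG (WR CP Ov InO Tr)
open RI (CS)

variable {G : Type*} [Group G] {Om : Set (Subgroup G)} {K L M : Subgroup G}
  {a b c d e g g' k l n q r s t u v w x y z : G}

/-- the component of the C-graph -/
def Cn (Om : Set (Subgroup G)) (z w : G) : Prop := Relation.ReflTransGen (fun a b => InZ Om a ∧ b ∈ A0 Om a) z w

section Fin

variable [Finite G]

namespace W3

variable (h : W3 Om)

include h

theorem cn_inZ (hz : InZ Om z) (hw : Cn Om z w) : InZ Om w := by
  induction hw with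
  | refl => exact hz
  | tail _ hbc _ => exact hbc.2.1

theorem cn_symm (hw : Cn Om z w) : Cn Om w z := by
  induction hw with
  | refl => exact Relation.ReflTransGen.refl
  | tail _ hbc ih => exact Relation.ReflTransGen.head ⟨hbc.2.1, h.symm_mem hbc.1 hbc.2⟩ ih

theorem cn_trans (hw : Cn Om z w) (hv : Cn Om w v) : Cn Om z v := Relation.ReflTransGen.trans hw hv

theorem cn_a0 (hz : InZ Om z) (hw : w ∈ A0 Om z) : Cn Om z w := Relation.ReflTransGen.single ⟨hz, hw⟩

theorem cn_comm (h8 : H8 Om) (hx : InZ Om x) (hc : x * z = z * x) (hw : Cn Om z w) : x * w = w * x := by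
  induction hw with
  | refl => exact hc
  | tail _ hbc ih => exact h.hh h8 hbc.1 hx ih hbc.2

theorem cn_comm' (h8 : H8 Om) (hz : InZ Om z) (hw : Cn Om z w) (hv : Cn Om z v) : w * v = v * w :=
  h.cn_comm h8 (h.cn_inZ hz hw) (h.cn_comm h8 hz rfl hw).symm hv

theorem cn_conj' (hw : Cn Om z w) (g : G) : Cn Om (g * z * g⁻¹) (g * w * g⁻¹) := by
  induction hw with
  | refl => exact Relation.ReflTransGen.refl
  | tail _ hbc ih => exact Relation.ReflTransGen.tail ih ⟨hbc.1.conj h.w g, hbc.2.1.conj h.w g, cp_conj h.w hbc.2.2 g⟩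

theorem cn_conj (ht : Cn Om z t) (hg : g * t = t * g) (hw : Cn Om z w) : Cn Om z (g * w * g⁻¹) := by
  have h1 := h.cn_conj' (h.cn_trans (h.cn_symm ht) hw) g
  rw [hg, mul_inv_cancel_right] at h1
  exact h.cn_trans ht h1

/-- the closure of the component -/
theorem clo (h8 : H8 Om) (hz : InZ Om z) : (∀ a ∈ closure {w | Cn Om z w}, ∀ b ∈ closure {w | Cn Om z w}, a * b = b * a) ∧
    (∀ a ∈ closure {w | Cn Om z w}, a * a = 1) ∧
    ∀ t, Cn Om z t → ∀ r, t * r = r * t → r ∈ normalizer (closure {w | Cn Om z w} : Set G) := by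
  have h1 : ∀ w, Cn Om z w → ∀ b ∈ closure {w | Cn Om z w}, w * b = b * w := by
    intro w hw b hb
    have h2 : closure {w | Cn Om z w} ≤ centralizer ({w} : Set G) := by
      refine (closure_le _).2 fun v hv => mem_centralizer_singleton_iff.2 ?_
      exact (h.cn_comm' h8 hz hw hv).symm
    exact (mem_centralizer_singleton_iff.1 (h2 hb)).symm
  have h3 : ∀ a ∈ closure {w | Cn Om z w}, ∀ b ∈ closure {w | Cn Om z w}, a * b = b * a := by
    intro a ha b hb
    have h2 : closure {w | Cn Om z w} ≤ centralizer ({b} : Set G) := by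
      refine (closure_le _).2 fun v hv => mem_centralizer_singleton_iff.2 ?_
      exact h1 v hv b hb
    exact mem_centralizer_singleton_iff.1 (h2 ha)
  refine ⟨h3, ?_, ?_⟩
  · intro a ha
    refine closure_induction (p := fun x _ => x * x = 1) ?_ ?_ ?_ ?_ ha
    · exact fun u hu => (h.cn_inZ hz hu).z2 h.w
    · rw [one_mul]
    · intro a b ha hb h1 h2
      calc a * b * (a * b) = a * (b * a) * b := by group
        _ = (a * a) * (b * b) := by rw [h3 b hb a ha]; group
        _ = 1 := by rw [h1, h2, one_mul]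
    · intro a _ h1
      rw [← mul_inv_rev, h1, inv_one]
  · intro t ht
    have key : ∀ r, t * r = r * t → cj r (closure {w | Cn Om z w}) ≤ closure {w | Cn Om z w} := by
      intro r hr
      rw [cj, map_le_iff_le_comap]
      exact (closure_le _).2 fun u hu => subset_closure (h.cn_conj ht hr.symm hu)
    intro r hr
    rw [mem_normalizer_iff_cj]
    refine le_antisymm (key r hr) ?_
    have h4 : t * r⁻¹ = r⁻¹ * t := by rw [eq_inv_mul_iff_mul_eq, ← mul_assoc, ← hr, mul_inv_cancel_right]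
    have h5 := cj_mono r (key r⁻¹ h4)
    rwa [cj_cj_inv] at h5

/-- the types of `w`, `v`, `w v` at `x` -/
theorem no_cp (hz : InZ Om z) (hx : InZ Om x) (hn : ¬ Cn Om z x) (hw : Cn Om z w) : x ≠ w ∧ ¬ CP Om x w ∧ w ∉ CX Om x := by
  have h1 : x ≠ w := by rintro rfl; exact hn hw
  have h2 : ¬ CP Om x w := fun h1 => hn (h.cn_trans hw (h.cn_symm (h.cn_a0 hx ⟨h.cn_inZ hz hw, h1⟩)))
  exact ⟨h1, h2, fun h3 => ((cen_iff h.w hx (h.cn_inZ hz hw)).1 h3).elim h1 h2⟩

/-- some `w` of the component is of type I with `x` -/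
theorem exists_ti (h8 : H8 Om) (hz : InZ Om z) (hx : InZ Om x) (hc : x * z = z * x) (hn : ¬ Cn Om z x) :
    ∃ w, Cn Om z w ∧ TI Om x w := by
  obtain ⟨hA, hsq, hnor⟩ := h.clo h8 hz
  have hxw : ∀ w, Cn Om z w → x * w = w * x := fun w hw => h.cn_comm h8 hx hc hw
  obtain ⟨u, hu⟩ : ∃ u, u ∈ A0 Om z := h.ex z hz
  have hzu := h.mul_mem hz hu
  have c1 : Cn Om z z := Relation.ReflTransGen.refl
  have c2 := h.cn_a0 hz hu
  have c3 := h.cn_a0 hz hzu
  by_cases hxE : x ∈ closure {w | Cn Om z w}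
  · -- no `f`
    have hnf : ∀ w, Cn Om z w → ¬ Ff Om w x := by
      intro w hw hf
      have hwZ := h.cn_inZ hz hw
      obtain ⟨K, hK⟩ := hwZ
      obtain ⟨a, ha⟩ := hf.exists_tr h.w (hx.z2 h.w) hK
      have haa := Tr.sq' ha hK
      obtain ⟨b, hb, hbb, hne, hne'⟩ := hK.exists_off h.w ha.mem haa
      have h1 := ha.com b hb (by rw [hbb, hK.2]) hne hne'
      have h2 : x * b * x⁻¹ * b⁻¹ ∈ closure {w | Cn Om z w} := by
        have h3 := hnor w hw b (hK.comm_z h.w hb).symm
        have h4 : x * b * x⁻¹ * b⁻¹ = x * (b * x⁻¹ * b⁻¹) := by group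
        rw [h4]
        exact Subgroup.mul_mem _ hxE ((mem_normalizer_iff.1 h3 _).1 (Subgroup.inv_mem _ hxE))
      have h3 := hsq _ h2
      rcases h1 with h1 | h1
      · rw [h1, haa] at h3; exact hK.inZ.z1 h.w h3
      · rw [h1, ← mul_inv_rev, haa, inv_eq_one] at h3; exact hK.inZ.z1 h.w h3
    have key : ∀ w, Cn Om z w → TI Om x w ∨ Swp Om x w := by
      intro w hw
      obtain ⟨h1, h2, -⟩ := h.no_cp hz hx hn hw
      rcases four h.w hx (h.cn_inZ hz hw) h1 (hxw w hw) with h3 | h3 | h3 | h3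
      · exact absurd h3 h2
      · exact Or.inl h3
      · exact Or.inr h3
      · exact absurd (h.ff_symm hx (h.cn_inZ hz hw) h3) (hnf w hw)
    rcases key z c1 with h1 | h1
    · exact ⟨z, c1, h1⟩
    rcases key u c2 with h2 | h2
    · exact ⟨u, c2, h2⟩
    refine ⟨z * u, c3, (key _ c3).resolve_right ?_⟩
    rw [swp_mul h.w hx (hxw z c1).symm (hxw u c2).symm]
    exact ⟨fun _ => h2, fun _ => h1⟩
  · -- `T = {1, z, u, z u}`
    have hzz := hz.z2 h.w
    have huu := hu.1.z2 h.w
    have hzu' := h.comm_z hz hu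
    have hTm : ∀ t, t = 1 ∨ t = z ∨ t = u ∨ t = z * u → t ∈ closure ({z, u} : Set G) := by
      intro t ht
      have m1 : z ∈ closure ({z, u} : Set G) := subset_closure (by simp)
      have m2 : u ∈ closure ({z, u} : Set G) := subset_closure (by simp)
      rcases ht with rfl | rfl | rfl | rfl
      · exact one_mem _
      · exact m1
      · exact m2
      · exact Subgroup.mul_mem _ m1 m2
    have hT : ∀ t ∈ closure ({z, u} : Set G), t = 1 ∨ t = z ∨ t = u ∨ t = z * u := by
      intro t ht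
      refine closure_induction (p := fun t _ => t = 1 ∨ t = z ∨ t = u ∨ t = z * u) ?_ ?_ ?_ ?_ ht
      · intro t ht
        rcases ht with rfl | ht
        · exact Or.inr (Or.inl rfl)
        · rw [Set.mem_singleton_iff] at ht
          exact Or.inr (Or.inr (Or.inl ht))
      · exact Or.inl rfl
      · intro a b _ _ ha hb
        exact VV.mul hzz huu hzu' ha hb
      · intro a _ ha
        have h1 : a * a = 1 := by
          rcases ha with rfl | rfl | rfl | rfl
          · rw [one_mul]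
          · exact hzz
          · exact huu
          · exact (hzu.1).z2 h.w
        rw [inv_eq_of_mul_eq_one_right h1]
        exact ha
    have hTC : ∀ t ∈ closure ({z, u} : Set G), t ≠ 1 → Cn Om z t := by
      intro t ht ht1
      rcases hT t ht with rfl | rfl | rfl | rfl
      · exact absurd rfl ht1
      · exact c1
      · exact c2
      · exact c3
    have j : JF Om (closure {w | Cn Om z w}) (closure {z, u}) x :=
      { inZ := hx
        comm' := hA
        sq := hsq
        nin := hxE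
        le := by
          refine (closure_le _).2 ?_
          rintro t (rfl | ht)
          · exact subset_closure c1
          · rw [Set.mem_singleton_iff] at ht
            rw [ht]
            exact subset_closure c2
        tx := by
          intro t ht
          by_cases h1 : t = 1
          · rw [h1, one_mul, mul_one]
          · exact (hxw t (hTC t ht h1)).symm
        nor := fun t ht ht1 r _ hr a ha => (mem_normalizer_iff.1 (hnor t (hTC t ht ht1) r hr) a).1 ha
        ff := by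
          intro t ht htx
          by_contra ht1
          exact (h.no_cp hz hx hn (hTC t ht ht1)).2.2 htx
        three := ⟨z, hTm z (Or.inr (Or.inl rfl)), u, hTm u (Or.inr (Or.inr (Or.inl rfl))), hz.z1 h.w, hu.1.z1 h.w, hu.2.1⟩ }
    obtain ⟨K, hK⟩ := hx
    obtain ⟨p, hp, s, hs, a, ha, -, hs1, -, haa, has, -⟩ := j.main h.w hK
    have hsC := hTC s hs hs1
    refine ⟨s, hsC, ?_⟩
    obtain ⟨h1, h2, -⟩ := h.no_cp hz hK.inZ hn hsC
    rcases inn_cases h.w hK (h.cn_inZ hz hsC) (fun k hk => by rw [has.2 k hk]; exact hK.comm_or h.w hk ha) with h3 | h3 | h3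
    · exact absurd h3 h1
    · exact absurd h3 h2
    · exact h3

/-- **`Z ∩ C(z)` is the component of `z`** -/
theorem cn (h8 : H8 Om) (h8' : H8' Om) (hz : InZ Om z) (hx : InZ Om x) (hc : x * z = z * x) : Cn Om z x := by
  by_contra hn
  obtain ⟨w, hw, hti⟩ := h.exists_ti h8 hz hx hc hn
  have hwZ := h.cn_inZ hz hw
  have hxw : ∀ w, Cn Om z w → x * w = w * x := fun w hw => h.cn_comm h8 hx hc hw
  have c0 : ∀ v ∈ A0 Om w, Cn Om z v := fun v hv => h.cn_trans hw (h.cn_a0 hwZ hv)
  -- all `v ∈ a₀(w)` are swaps at `x`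
  have key : ∀ v ∈ A0 Om w, Swp Om x v := by
    intro v hv
    obtain ⟨h1, h2, -⟩ := h.no_cp hz hx hn (c0 v hv)
    rcases four h.w hx hv.1 h1 (hxw v (c0 v hv)) with h3 | h3 | h3 | h3
    · exact absurd h3 h2
    · exfalso
      exact (h.no_cp hz hx hn (c0 _ (h.mul_mem hwZ hv))).2.2 (tt_II_cx h.w hv.2 hti h3)
    · exact h3
    · exact (tt_If h.w hv.2 hti hv.1 h3).elim
  have no : ∀ v ∈ A0 Om w, ∀ v' ∈ A0 Om w, ¬ TI Om v v' := by
    intro v hv v' hv' h1
    have h2 := key _ (h.ti_mem hwZ hv hv' h1)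
    exact (swp_mul h.w hx (hxw v (c0 v hv)).symm (hxw v' (c0 v' hv')).symm).2
      ⟨fun _ => key v' hv', fun _ => key v hv⟩ h2
  have no' : ∀ v ∈ A0 Om w, ∀ v' ∈ A0 Om w, ¬ Swp Om v v' := by
    intro v hv v' hv' h1
    obtain ⟨a, ha, b, hb, h2⟩ := h8' w v v' hwZ hv hv' h1
    exact no a ha b hb h2
  -- `r ∈ K_x` acting as `w`
  obtain ⟨v, hv⟩ : ∃ v, v ∈ A0 Om w := h.ex w hwZ
  obtain ⟨K, hK⟩ := hti.inZ
  obtain ⟨r, hr, hrr⟩ := hti.exists_as h.w hK
  have hs := key v hv
  have hrw : r * w = w * r := hr.comm.symm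
  have hm := h.conj_mem hv hrw
  have hne : v ≠ r * v * r⁻¹ := by
    intro h1
    have h2 : v * r = r * v := by rw [eq_mul_inv_iff_mul_eq] at h1; exact h1
    have h3 : v * r * v⁻¹ = r := by rw [h2, mul_inv_cancel_right]
    have h4 : r ∈ cj v K := by
      have := conj_mem_cj (g := v) hr.1
      rwa [h3] at this
    rcases hK.inf (hs.mem h.w hK) h.w (hs.ne hK) hr.1 h4 with h5 | h5
    · rw [h5, one_mul] at hrr; exact hx.z1 h.w hrr.symm
    · rw [h5, hx.z2 h.w] at hrr; exact hx.z1 h.w hrr.symm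
  rcases h.dich hwZ hv hm hne with h1 | h1 | ⟨h1, -⟩
  · -- `w = [r, v] ∈ R_x`
    have h2 : w = r * (v * r⁻¹ * v⁻¹) := by
      have h3 : r * (v * r⁻¹ * v⁻¹) = (r * v * r⁻¹) * v⁻¹ := by group
      rw [h3, h1, mul_inv_cancel_right]
    have h3 : w ∈ RZ Om x := by
      rw [h2]
      exact Subgroup.mul_mem _ (hK.le_RZ hr.1) (RZ_conj_comm h.w hs.1 (Subgroup.inv_mem _ (hK.le_RZ hr.1)))
    exact hti.ne (h.thin hx hwZ h3).symm
  · exact no _ hv _ hm h1
  · exact no' _ hv _ hm h1

/-- **STAR for `m = 3`, `|T| = 4`** -/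
theorem star (h8 : H8 Om) (h8' : H8' Om) : StarC Om := by
  intro S x y hx hy hxS hyS
  obtain ⟨K, hKO, hKS⟩ : ∃ K ∈ Om, K ≤ (S : Subgroup G) := by
    obtain ⟨K, hK⟩ := hx
    obtain ⟨S', hS'⟩ := (h.w.isPGroup hK.1).exists_le_sylow
    obtain ⟨g, hg⟩ := MulAction.exists_smul_eq G S' S
    have hgS : (S : Subgroup G) = cj g S' := by
      rw [← hg]
      rfl
    exact ⟨cj g K, h.w.hyp.conj K hK.1 g, by rw [hgS]; exact cj_mono g hS'⟩
  have hz : zz K ∈ CS Om (S : Subgroup G) := ⟨K, ⟨hKO, rfl⟩, hKS⟩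
  have h1 := comm_CS_of_NCS h.w h.l0 S.isPGroup' hx hxS hz
  have h2 := comm_CS_of_NCS h.w h.l0 S.isPGroup' hy hyS hz
  have hzZ := CS.inZ hz
  exact (h.cn_comm h8 hy h2 (h.cn h8 h8' hzZ hx h1)).symm

end W3

end Fin

end Cfsg.Agent.Cit.Nil.RTwoM.MThree
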