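import Cfsg.Agent.Cit.Nil.RTwoM.Rot
import Cfsg.Agent.Cit.Nil.RTwoM.TFour
import Cfsg.Agent.Cit.Nil.RTwoM.MThree.Eight
import Cfsg.Agent.Cit.Nil.RTwoM.MThree.Star

/-!
# S1309, (6b), (C3), `r = 2`, `m = 3`, `|T| = 4` : `LAMBDA0 ⟹ StarC`

* `Rot.ne_comm`; `W3.pat1` : the pattern (111) on `a₀(z)`;
* **`starC_three`** : `WM, L0, ANT, ANS, OneCl, (C3), |C_S| = 3, |T_S| = 4 ⟹ StarC`.
-/

set_option autoImplicit false
set_option linter.style.haveILetI false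
set_option linter.unusedSectionVars false

namespace Cfsg.Agent.Cit.Nil.RTwoM

open Subgroup Cfsg Cfsg.Agent.Cit

open RG (WR CP Ov InO)
open RI (CS)

variable {G : Type*} [Group G] [Finite G] {Om : Set (Subgroup G)} {K L M : Subgroup G}
  {a b c d e s t u v x y z g k n : G}

/-- a rotation moves every `y ∈ K`, `y² = z`, to an element not commuting with it -/
theorem Rot.ne_comm (h : WM Om) (hK : Mem Om z K) (hc : Rot z K c) (hk : k ∈ K) (hkk : k * k = z) :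
    k * (c * k * c⁻¹) ≠ (c * k * c⁻¹) * k := by
  have hcz : c * z = z * c := hK.of_cj h hc.1
  have hck : c * k * c⁻¹ ∈ K := by
    have := conj_mem_cj (g := c) hk
    rwa [hc.1] at this
  have hckk : c * k * c⁻¹ * (c * k * c⁻¹) = z := by
    calc c * k * c⁻¹ * (c * k * c⁻¹) = c * (k * k) * c⁻¹ := by group
      _ = z := by rw [hkk, hcz, mul_inv_cancel_right]
  obtain ⟨h1, h2⟩ := hc.2 k hk hkk
  intro h5
  rcases hK.of_comm h hk hkk hck h5 with h6 | h6 | h6 | h6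
  · rw [h6, one_mul] at hckk; exact hK.inZ.z1 h hckk.symm
  · rw [h6, hK.inZ.z2 h] at hckk; exact hK.inZ.z1 h hckk.symm
  · exact h1 h6
  · exact h2 h6

namespace MThree

theorem W3.pat1 (h : W3 Om) (c3 : C3R Om) (hm : ∀ S : Sylow 2 G, (CS Om (S : Subgroup G)).ncard ≤ 3)
    (hz : InZ Om z) : Pat1 Om (A0 Om z) := by
  refine (W3.nilS h hz).pat1_of_rot h.w ?_
  intro b hb _
  obtain ⟨S, hzS, hbS⟩ := exists_sylow_of_cp h.w hz hb.1 hb.2
  obtain ⟨K, hK, hKS⟩ := hbS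
  obtain ⟨c, hc, hct⟩ := c3.exists_cent h.w S (hm S) hK hKS
  have hcz : c * z = z * c := hct z (CS.mem_TT hzS)
  refine ⟨c, ?_, K, hK, hc.1, fun k hk hkk => hc.ne_comm h.w hK hk hkk⟩
  intro d hd
  have h1 : c * z * c⁻¹ = z := by rw [hcz, mul_inv_cancel_right]
  refine ⟨InZ.conj hd.1 h.w c, ?_⟩
  have h2 := cp_conj h.w hd.2 c
  rwa [h1] at h2

end MThree

/-- **`m = 3`, `|T| = 4`** : `StarC` -/
theorem starC_three (h : WM Om) (l0 : L0 Om) (an : ANT Om) (as : ANS Om) (oc : OneCl Om) (c3 : C3R Om)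
    (h3 : ∀ S : Sylow 2 G, (CS Om (S : Subgroup G)).ncard = 3)
    (h4 : ∀ S : Sylow 2 G, Nat.card (TT Om (S : Subgroup G)) = 4) : StarC Om := by
  have w := MThree.W3.of h l0 an oc as h3 h4
  have hp : ∀ z, InZ Om z → Pat1 Om (MThree.A0 Om z) := fun z hz =>
    w.pat1 c3 (fun S => le_of_eq (h3 S)) hz
  exact w.star (w.h8 hp) (w.h8' hp)

end Cfsg.Agent.Cit.Nil.RTwoM
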