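import Cfsg.Agent.Cit.Nil.RTwoM.MThree.Base

/-!
# S1309, (6b), (C3), `r = 2`, `m = 3`, `|T| = 4` (helper545, bb #18935): (5), (6), (H)

`x ∈ Z ∩ C(z)` moves some `u ∈ a₀(z)`.

* `five_a` : `z` of type `f` at `x`, `v ∈ a₀(z) ∩ C(x)` : `v` is a swap at `x`; `five_b`, `five_c`;
* `G8`, `H8`, `H8'` : what is used of the block theorem;
* `W3.five` (5), `W3.six_a` (6a), `W3.six_b`, `W3.six` (6), **`W3.hh`** (H).
-/

set_option autoImplicit false
set_option linter.style.haveILetI false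
set_option linter.unusedSectionVars false

namespace Cfsg.Agent.Cit.Nil.RTwoM.MThree

open Subgroup Cfsg Cfsg.Agent.Cit

open RTwo (Q3)
open RG (WR CP Ov InO Tr)
open RI (CS)

variable {G : Type*} [Group G] {Om : Set (Subgroup G)} {K L M : Subgroup G}
  {a b c d e g g' k l n q r s t u v w x y z : G}

/-- `v ∈ a₀(z)` is fixed by `x`, `x` is not of type `f` at `v`, and some moved `u` is of type I with `v` -/
def Fx (Om : Set (Subgroup G)) (z x v : G) : Prop :=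
  v ∈ A0 Om z ∧ x * v = v * x ∧ ¬ Ff Om v x ∧ ∃ u ∈ A0 Om z, x * u ≠ u * x ∧ TI Om u v

/-- three fixed elements -/
def G8 (Om : Set (Subgroup G)) (z x : G) : Prop :=
  ∃ v₁ v₂, TI Om v₁ v₂ ∧ Fx Om z x v₁ ∧ Fx Om z x v₂ ∧ Fx Om z x (v₁ * v₂)

/-- all moved `u ∈ a₀(z)` are swap pairs with `x u x⁻¹` -/
def H8 (Om : Set (Subgroup G)) : Prop := ∀ z x, InZ Om z → InZ Om x → x * z = z * x →
  (∃ u ∈ A0 Om z, x * u ≠ u * x) → (∀ u ∈ A0 Om z, x * u ≠ u * x → Swp Om u (x * u * x⁻¹)) → G8 Om z x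

/-- a swap pair in `a₀(z)` : there is a type I pair in `a₀(z)` -/
def H8' (Om : Set (Subgroup G)) : Prop := ∀ z u v, InZ Om z → u ∈ A0 Om z → v ∈ A0 Om z → Swp Om u v →
  ∃ u ∈ A0 Om z, ∃ v ∈ A0 Om z, TI Om u v

section Fin

variable [Finite G]

theorem qq_ne (hs : Swp Om z x) (h : WM Om) (hK : Mem Om z K) (hk : k ∈ K) (hkk : k * k = z) :
    qq x k ≠ 1 ∧ qq x k ≠ z := by
  have hzz := hK.inZ.z2 h
  constructor
  · intro h1
    rcases qq_eq_one hs h hK hk h1 with h2 | h2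
    · rw [h2, one_mul] at hkk; exact hK.inZ.z1 h hkk.symm
    · rw [h2, hzz] at hkk; exact hK.inZ.z1 h hkk.symm
  · intro h1
    have h2 : x * k * x⁻¹ = k⁻¹ * z := by rw [eq_inv_mul_iff_mul_eq]; exact h1
    have h3 : k⁻¹ * z ∈ K := Subgroup.mul_mem _ (Subgroup.inv_mem _ hk) (hK.zmem h)
    have h4 : x * k * x⁻¹ ∈ cj x K := conj_mem_cj hk
    rcases hs.inf h hK h3 h4 h2.symm with h5 | h5
    · have h6 : z = k := by rw [inv_mul_eq_one] at h5; exact h5.symm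
      rw [← h6, hzz] at hkk; exact hK.inZ.z1 h hkk.symm
    · have h6 : k = 1 := by
        rw [inv_mul_eq_iff_eq_mul] at h5
        exact mul_eq_right.1 h5.symm
      rw [h6, one_mul] at hkk; exact hK.inZ.z1 h hkk.symm

/-- an involution acting on `M` and fixing `c ∈ M` of order 4 acts as `1` or as `c` -/
theorem as_of_fix (h : WM Om) (hM : Mem Om x M) (hc : c ∈ M) (hcc : c * c = x) (hl : l * l = 1) (hlM : cj l M = M)
    (hlc : l * c * l⁻¹ = c) : As M l 1 ∨ As M l c := by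
  rcases h.wr.inn_or_tr hM.1 hlM hl with ⟨y, hy, h1⟩ | ⟨a, ha⟩
  · have h2 : c * y = y * c := by
      have h3 := h1 c hc
      rw [hlc, eq_mul_inv_iff_mul_eq] at h3
      exact h3
    have h4 : As M l y := ⟨hy, h1⟩
    have h5 : As M x 1 := hM.as_z h
    rcases hM.of_comm h hc hcc hy h2 with h3 | h3 | h3 | h3
    · left; rw [h3] at h4; exact h4
    · left
      rw [h3] at h4
      refine As.one_iff.2 fun k hk => ?_
      have h6 := h4.2 k hk
      rw [← hM.comm_z h hk, mul_inv_cancel_right, mul_inv_eq_iff_eq_mul] at h6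
      exact h6
    · right; rw [h3] at h4; exact h4
    · right
      rw [h3] at h4
      refine ⟨hc, fun k hk => ?_⟩
      have h6 := h4.2 k hk
      have h7 : c * k * c⁻¹ ∈ M := mul_mem (mul_mem hc hk) (inv_mem hc)
      rw [h6]
      calc x * c * k * (x * c)⁻¹ = x * (c * k * c⁻¹) * x⁻¹ := by group
        _ = (c * k * c⁻¹) * x * x⁻¹ := by rw [hM.comm_z h h7]
        _ = _ := by group
  · exfalso
    rcases Tr.comm_iff ha hM h hc hlc with h1 | h1
    · rw [h1, one_mul] at hcc; exact hM.inZ.z1 h hcc.symm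
    · rw [h1, hM.inZ.z2 h] at hcc; exact hM.inZ.z1 h hcc.symm

namespace W3

variable (h : W3 Om)

include h

/-! ### (5) -/

theorem five_0 (hz : InZ Om z) (hx : InZ Om x) (hf : Ff Om x z) (hv : v ∈ A0 Om z) :
    ¬ (x = v ∨ CP Om x v ∨ TI Om x v) := by
  rintro (h1 | h1 | h1)
  · rw [h1] at hf
    exact ff_ncp hf h.w hv.1 hz hv.2.symm
  · exact h.not_ff hv.1 (h.symm_mem hx ⟨hv.1, h1⟩) (h.symm_mem hz hv) hf
  · exact tt_If h.w hv.2.symm h1 hz hf

/-- (5), first lines -/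
theorem five_a (hz : InZ Om z) (hx : InZ Om x) (hf : Ff Om x z) (hv : v ∈ A0 Om z) (hc : x * v = v * x) :
    Swp Om x v := by
  have h0 := h.five_0 hz hx hf hv
  rcases four h.w hx hv.1 (fun h1 => h0 (Or.inl h1)) hc with h1 | h1 | h1 | h1
  · exact absurd (Or.inr (Or.inl h1)) h0
  · exact absurd (Or.inr (Or.inr h1)) h0
  · exact h1
  · exfalso
    obtain ⟨K, hK⟩ := hx
    obtain ⟨a, ha⟩ := hf.exists_tr h.w (hz.z2 h.w) hK
    have h2 := (tt_ff h.w h.l0 hv.2 (h.an1 (h.mul_mem hz hv).1) hz hv.1 hf h1 hK ha).2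
    refine h.five_0 hz hK.inZ hf (h.mul_mem hz hv) (inn_cases h.w hK (h.mul_mem hz hv).1 fun k hk => ?_)
    rw [h2.2 k hk]
    exact hK.comm_or h.w hk h2.1

theorem five_b (hz : InZ Om z) (hx : InZ Om x) (hf : Ff Om x z) (hu : u ∈ A0 Om z) (hv : v ∈ A0 Om z)
    (hcu : x * u = u * x) (hcv : x * v = v * x) : ¬ TI Om u v := by
  intro hti
  have h1 := h.five_a hz hx hf hu hcu
  have h2 := h.five_a hz hx hf hv hcv
  have hcuv : x * (u * v) = u * v * x := by rw [← mul_assoc, hcu, mul_assoc, hcv, mul_assoc]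
  have h3 := h.five_a hz hx hf (h.ti_mem hz hu hv hti) hcuv
  exact (swp_mul h.w hx hcu.symm hcv.symm).2 ⟨fun _ => h2, fun _ => h1⟩ h3

/-- `q = u (x u x⁻¹)` -/
theorem qdef (hz : InZ Om z) (hx : InZ Om x) (hc : x * z = z * x) (hu : u ∈ A0 Om z)
    (hti : TI Om u (x * u * x⁻¹)) : u * (x * u * x⁻¹) ∈ A0 Om z ∧
      x * (u * (x * u * x⁻¹)) = u * (x * u * x⁻¹) * x ∧ x * (u * (x * u * x⁻¹)) = u * x * u⁻¹ := by
  have hxx := hx.z2 h.w
  have hx' := hx.inv h.w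
  have hu' := hu.1.inv h.w
  have hux := h.conj_mem hu hc
  have h1 := h.comm hz hu hux
  have h2 : x * (u * (x * u * x⁻¹)) = u * x * u⁻¹ := by
    rw [h1, hx', hu']
    calc x * (x * u * x * u) = (x * x) * u * x * u := by group
      _ = u * x * u := by rw [hxx, one_mul]
  refine ⟨h.ti_mem hz hu hux hti, ?_, h2⟩
  rw [h2, hx', hu']
  calc u * x * u = u * x * u * (x * x) := by rw [hxx, mul_one]
    _ = u * (x * u * x) * x := by group

theorem five_c (hz : InZ Om z) (hx : InZ Om x) (hf : Ff Om x z) (hu : u ∈ A0 Om z) : ¬ TI Om u (x * u * x⁻¹) := by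
  intro hti
  obtain ⟨h1, h2, h3⟩ := h.qdef hz hx hf.1.symm hu hti
  have h4 := h.five_a hz hx hf h1 h2
  refine h.pp hx h1.1 h4 ?_
  rw [h3]
  exact hx.conj h.w u

/-- the moved elements -/
theorem moved (hz : InZ Om z) (hc : x * z = z * x) (hx : InZ Om x) (hu : u ∈ A0 Om z) (hm : x * u ≠ u * x) :
    TI Om u (x * u * x⁻¹) ∨ Swp Om u (x * u * x⁻¹) := by
  have hux := h.conj_mem hu hc
  have hne : u ≠ x * u * x⁻¹ := fun h1 => hm (by rw [eq_mul_inv_iff_mul_eq] at h1; exact h1.symm)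
  rcases tri h.w hu.1 hux.1 hne (h.comm hz hu hux) with h1 | h1 | ⟨h1, -⟩
  · exact absurd h1 (h.l0 u x hu.1 hx)
  · exact Or.inl h1
  · exact Or.inr (h1.cases.resolve_right (h.not_ff hz hu hux))

/-- **(5)** -/
theorem five (h8 : H8 Om) (hz : InZ Om z) (hx : InZ Om x) (hf : Ff Om x z) (hu : u ∈ A0 Om z) : x * u = u * x := by
  by_contra hm
  obtain ⟨v₁, v₂, h1, h2, h3, -⟩ := h8 z x hz hx hf.1.symm ⟨u, hu, hm⟩ fun w hw hwm =>
    (h.moved hz hf.1.symm hx hw hwm).resolve_left (h.five_c hz hx hf hw)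
  exact h.five_b hz hx hf h2.1 h3.1 h2.2.1 h3.2.1 h1

/-! ### (6) -/

/-- **(6a)** -/
theorem six_a (hz : InZ Om z) (hx : InZ Om x) (hs : Swp Om x z) (hu : u ∈ A0 Om z) (hm : x * u ≠ u * x)
    (hv : v ∈ A0 Om z) : ¬ TI Om x v := by
  intro hti
  have hxx := hx.z2 h.w
  have hzz := hz.z2 h.w
  have hs' := h.swp_symm hx hz hs
  have hc : x * z = z * x := hs'.1
  obtain ⟨M, hM⟩ := hx
  have hM' := hs.mem h.w hM
  have hMM := hs.ne hM
  obtain ⟨c, hcv, hcc⟩ := hti.exists_as h.w hM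
  obtain ⟨K, hK⟩ := hz
  obtain ⟨y, Y⟩ := h.w.exists_q3 hK
  have hxv := hti.comm
  -- the nonswaps of `L` centralise `c`
  have key : ∀ l ∈ RZ Om z, x * l = l * x → l * l = 1 → ¬ Swp Om x l → As M l 1 ∨ As M l c := by
    intro l hl hxl hll hns
    have hlM : cj l M = M := by
      by_contra h1
      exact hns ((swp_iff h.w hM hxl.symm).2 h1)
    have hlv : l * v = v * l := cp_RZ h.w hv.2 hl (z_mem_RZ hv.1 h.w)
    have h1 := hcv.conj_comm hlv
    rw [hlM] at h1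
    refine as_of_fix h.w hM hcv.1 hcc hll hlM ?_
    refine (hM.as_unique h.w hcv h1).resolve_right fun h2 => ?_
    -- `[l, c] = x` centralises `R_v`
    refine hti.not_cp h.w (h.mem_of_cx hv.1 hM.inZ hti.ne.symm ?_).2.symm
    have h3 : x = l * (c * l⁻¹ * c⁻¹) := by
      rw [eq_comm, show l * (c * l⁻¹ * c⁻¹) = (l * c * l⁻¹) * c⁻¹ by group, h2, mul_inv_cancel_right]
    have hlR : ∀ g ∈ RZ Om v, l * g = g * l := fun g hg => cp_RZ h.w hv.2 hl hg
    rw [h3, mem_CX]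
    intro N hN k hk
    have hkR := hN.le_RZ hk
    have hvc : c⁻¹ * v = v * c⁻¹ := by
      rw [inv_mul_eq_iff_eq_mul, ← mul_assoc, ← hcv.comm, mul_inv_cancel_right]
    have h4 := RZ_conj_comm h.w hvc hkR
    rw [inv_inv] at h4
    have h5 : l⁻¹ * (c⁻¹ * k * c) = (c⁻¹ * k * c) * l⁻¹ := by
      rw [inv_mul_eq_iff_eq_mul, ← mul_assoc, hlR _ h4, mul_inv_cancel_right]
    calc l * (c * l⁻¹ * c⁻¹) * k = l * c * (l⁻¹ * (c⁻¹ * k * c)) * c⁻¹ := by group
      _ = l * c * ((c⁻¹ * k * c) * l⁻¹) * c⁻¹ := by rw [h5]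
      _ = (l * k) * (c * l⁻¹ * c⁻¹) := by group
      _ = (k * l) * (c * l⁻¹ * c⁻¹) := by rw [hlR k hkR]
      _ = _ := by group
  -- the action on the second member
  have hz' : ∀ l ∈ RZ Om z, z * l = l * z := fun l hl => (RZ_le_centralizer h.w hl).symm
  have key2 : ∀ l ∈ RZ Om z, x * l = l * x → As M l 1 → l = 1 := by
    intro l hl hxl h1
    refine h.faith hK.inZ hM.inZ hc hu hm hl hxl ?_
    have h2 := h1.conj_comm (hz' l hl)
    rw [mul_one, mul_inv_cancel] at h2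
    rw [mem_CX]
    intro N hN
    rcases hM.cases hM' h.w hMM hN with rfl | rfl
    · exact As.one_iff.1 h1
    · exact As.one_iff.1 h2
  have key3 : ∀ l ∈ RZ Om z, ∀ l' ∈ RZ Om z, x * l = l * x → x * l' = l' * x → As M l c → As M l' c → l = l' := by
    intro l hl l' hl' h1 h2 h3 h4
    have h5 := h3.mul h4.inv
    rw [mul_inv_cancel] at h5
    have h6 : x * (l * l'⁻¹) = l * l'⁻¹ * x := by
      have h7 : x * l'⁻¹ = l'⁻¹ * x := by
        rw [eq_inv_mul_iff_mul_eq, ← mul_assoc, ← h2, mul_inv_cancel_right]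
      rw [← mul_assoc, h1, mul_assoc, h7, mul_assoc]
    exact mul_inv_eq_one.1 (key2 _ (Subgroup.mul_mem _ hl (Subgroup.inv_mem _ hl')) h6 h5)
  -- `n k` : the nonswap among `qq x k`, `z qq x k`
  have key4 : ∀ k ∈ K, k * k = z → ∃ l ∈ RZ Om z, (l = qq x k ∨ l = z * qq x k) ∧ x * l = l * x ∧ l * l = 1 ∧ l ≠ 1 ∧
      As M l c := by
    intro k hk hkk
    have h1 := qq_mem hs' h.w hK hk
    have h2 := qq_comm hs' h.w hxx hK hk
    have h3 := qq_sq hs' h.w hK hk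
    obtain ⟨h4, h5⟩ := qq_ne hs' h.w hK hk hkk
    have h6 := hz' _ h1
    have h7 : x * (z * qq x k) = z * qq x k * x := by rw [← mul_assoc, hc, mul_assoc, h2, mul_assoc]
    have h8 : (z * qq x k) * (z * qq x k) = 1 := by
      calc (z * qq x k) * (z * qq x k) = (z * qq x k) * (qq x k * z) := by rw [h6]
        _ = z * (qq x k * qq x k) * z := by group
        _ = 1 := by rw [h3, mul_one, hzz]
    have h9 : z * qq x k ≠ 1 := by
      intro h10
      apply h5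
      rw [mul_eq_one_iff_inv_eq] at h10
      rw [← h10, hK.inZ.inv h.w]
    by_cases h10 : Swp Om x (qq x k)
    · have h11 : ¬ Swp Om x (z * qq x k) := by
        rw [swp_mul h.w hM.inZ hc.symm h2.symm]
        exact ⟨fun _ => h10, fun _ => hs⟩
      have h12 := Subgroup.mul_mem _ (z_mem_RZ hK.inZ h.w) h1
      exact ⟨_, h12, Or.inr rfl, h7, h8, h9, (key _ h12 h7 h8 h11).resolve_left fun h13 => h9 (key2 _ h12 h7 h13)⟩
    · exact ⟨_, h1, Or.inl rfl, h2, h3, h4, (key _ h1 h2 h3 h10).resolve_left fun h13 => h4 (key2 _ h1 h2 h13)⟩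
  obtain ⟨l₀, a0, b0, c0, -, -, d0⟩ := key4 (y 0) (Y.mem 0) (Y.sq 0)
  obtain ⟨l₁, a1, b1, c1, -, -, d1⟩ := key4 (y 1) (Y.mem 1) (Y.sq 1)
  have h1 := key3 l₀ a0 l₁ a1 c0 c1 d0 d1
  -- `qq x (y 0) = z^i qq x (y 1)`
  have h2 : qq x (y 0) = qq x (y 1) ∨ qq x (y 0) = z * qq x (y 1) := by
    have e1 : ∀ g : G, z * (z * g) = g := fun g => by rw [← mul_assoc, hzz, one_mul]
    rw [← h1] at b1
    rcases b0 with h3 | h3 <;> rcases b1 with h4 | h4
    · left; rw [← h3, ← h4]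
    · right; rw [← h3, ← h4]
    · right
      rw [← h4, h3, e1]
    · left
      exact mul_left_cancel (h3.symm.trans h4)
  have h3 : qq x (y 0 * y 1) = qq x (y 0) * qq x (y 1) := qq_mul hs' h.w hK (Y.mem 0) (Y.mem 1)
  have e0 := Y.mul 0
  simp only [zero_add] at e0
  have h4 : y 0 * y 1 ∈ K ∧ (y 0 * y 1) * (y 0 * y 1) = z := by
    rw [e0]; exact ⟨Y.mem 2, Y.sq 2⟩
  obtain ⟨h5, h6⟩ := qq_ne hs' h.w hK h4.1 h4.2
  have h7 := qq_sq hs' h.w hK (Y.mem 1)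
  rcases h2 with h2 | h2
  · rw [h2, h7] at h3; exact h5 h3
  · rw [h2, mul_assoc, h7, mul_one] at h3; exact h6 h3

theorem six_b (h8 : H8 Om) (hz : InZ Om z) (hx : InZ Om x) (hs : Swp Om x z) (hu : u ∈ A0 Om z)
    (hm : x * u ≠ u * x) : ¬ TI Om u (x * u * x⁻¹) := by
  intro hti
  have hc : x * z = z * x := hs.1.symm
  obtain ⟨h1, h2, h3⟩ := h.qdef hz hx hc hu hti
  obtain ⟨q, hq⟩ : ∃ q, q = u * (x * u * x⁻¹) := ⟨_, rfl⟩
  rw [← hq] at h1 h2 h3
  have hne : x ≠ q := by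
    intro h4
    rw [← h4] at h1
    exact sw_ncp hs h.w hx hz h1.2.symm
  have hxq : InZ Om (x * q) := by rw [h3]; exact hx.conj h.w u
  rcases four h.w hx h1.1 hne h2 with h4 | h4 | h4 | h4
  · have h5 := h.mul_mem hx ⟨h1.1, h4⟩
    rw [h3] at h5
    exact h.l0 x u hx hu.1 h5.2
  · exact h.six_a hz hx hs hu hm h1 h4
  · exact h.pp hx h1.1 h4 hxq
  · obtain ⟨g, hg⟩ := h.oc z q hz h1.1
    have hux := h.conj_mem hu hc
    have key : ∀ v ∈ A0 Om z, g * v * g⁻¹ ∈ A0 Om q := by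
      intro v hv
      refine ⟨hv.1.conj h.w g, ?_⟩
      have h5 := cp_conj h.w hv.2 g
      rwa [hg] at h5
    exact h.five_b h1.1 hx h4 (key _ hu) (key _ hux) (h.five h8 h1.1 hx h4 (key _ hu))
      (h.five h8 h1.1 hx h4 (key _ hux)) (hti.conj h.w g)

/-- **(6)** -/
theorem six (h8 : H8 Om) (hz : InZ Om z) (hx : InZ Om x) (hs : Swp Om x z) (hu : u ∈ A0 Om z) :
    x * u = u * x := by
  by_contra hm
  have hc : x * z = z * x := hs.1.symm
  obtain ⟨v₁, v₂, hti, f1, f2, f3⟩ := h8 z x hz hx hc ⟨u, hu, hm⟩ fun w hw hwm =>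
    (h.moved hz hc hx hw hwm).resolve_left (h.six_b h8 hz hx hs hw hwm)
  have key : ∀ v, Fx Om z x v → Swp Om x v := by
    rintro v ⟨hv, hxv, hnf, w, hw, hwm, hti⟩
    have hne : x ≠ v := by
      intro h4
      rw [← h4] at hv
      exact sw_ncp hs h.w hx hz hv.2.symm
    rcases four h.w hx hv.1 hne hxv with h4 | h4 | h4 | h4
    · exact absurd hti (h.not_ti hv.1 hw.1 hti.comm (h.symm_mem hx ⟨hv.1, h4⟩) fun h5 => hwm h5.symm)
    · exact absurd h4 (h.six_a hz hx hs hu hm hv)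
    · exact h4
    · exact absurd (h.ff_symm hx hv.1 h4) hnf
  exact (swp_mul h.w hx f1.2.1.symm f2.2.1.symm).2 ⟨fun _ => key _ f2, fun _ => key _ f1⟩ (key _ f3)

/-- **(H)** -/
theorem hh (h8 : H8 Om) (hz : InZ Om z) (hx : InZ Om x) (hc : x * z = z * x) (hu : u ∈ A0 Om z) :
    x * u = u * x := by
  by_contra hm
  rcases h.pf hz hx hc hu hm with h1 | h1
  · exact hm (h.six h8 hz hx h1 hu)
  · exact hm (h.five h8 hz hx h1 hu)

end W3

end Fin

end Cfsg.Agent.Cit.Nil.RTwoM.MThree
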